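import Groth.Agent.EulerChar.Basic
import Groth.Agent.TopDimLib.Basic
import Groth.Agent.CohTop.Flasque
import Mathlib.Topology.Sheaves.Flasque
import Mathlib.Topology.Sheaves.Stalks

/-!
# Coherent modules with finite support
-/

universe u

open CategoryTheory CategoryTheory.Limits AlgebraicGeometry TopologicalSpace Opposite

set_option linter.style.haveILetI false

namespace Groth.Agent.EulerChar

variable (k : Type u) [Field k] {X : Scheme.{u}} [X.Over (Spec (CommRingCat.of k))]
  [IsProper (X ↘ Spec (CommRingCat.of k))]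

include k in
/-- A zero-dimensional closed support is finite, and all its subsets are closed. -/
theorem isClosed_of_subset_support {F : X.Modules} (hF : Coh.IsCoh F)
    (hsupp : topologicalKrullDim (CohB1.support F) ≤ 0) {A : Set X} (hA : A ⊆ CohB1.support F) :
    IsClosed A ∧ A.Finite := by
  haveI := isLocallyNoetherian k (X := X)
  haveI := compactSpace k (X := X)
  haveI : IsNoetherian X := ⟨⟩
  have hc : IsClosed (CohB1.support F) := CohDev.isClosed_support hF
  obtain ⟨hf, -⟩ := TopDimLib.finite_and_discrete_of_topDim_le_zero hsupp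
  have hfin : (CohB1.support F).Finite := Set.finite_coe_iff.mp hf
  haveI : CompactSpace (CohB1.support F) := isCompact_iff_compactSpace.mp hc.isCompact
  haveI : T1Space (CohB1.support F) := TopDimLib.t1Space_of_topDim_le_zero hsupp
  refine ⟨?_, hfin.subset hA⟩
  have h : IsClosed (Subtype.val ⁻¹' A : Set (CohB1.support F)) :=
    (hfin.subset hA).preimage Subtype.val_injective.injOn |>.isClosed
  have := hc.isClosedEmbedding_subtypeVal.isClosedMap _ h
  rwa [Subtype.image_preimage_coe, Set.inter_eq_self_of_subset_right hA] at this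

include k in
/-- A coherent module with zero-dimensional support is flasque. -/
theorem isFlasque_of_support {F : X.Modules} (hF : Coh.IsCoh F)
    (hsupp : topologicalKrullDim (CohB1.support F) ≤ 0) :
    TopCat.Sheaf.IsFlasque (X := X.toPresheafedSpace.carrier) (Coh.toAb F) := by
  constructor
  rintro ⟨U⟩ ⟨V⟩ i
  rw [AddCommGrpCat.epi_iff_surjective]
  intro s
  have hVU : V ≤ U := leOfHom i.unop
  let T : Set X := CohB1.support F ∩ V
  have hTcl : IsClosed T := (isClosed_of_subset_support k hF hsupp Set.inter_subset_left).1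
  let V' : X.Opens := U ⊓ ⟨Tᶜ, hTcl.isOpen_compl⟩
  let cov : Bool → X.Opens := fun b => if b then V else V'
  let sf : ∀ b, Γ(F, cov b) := fun b => match b with
    | true => s
    | false => 0
  have hz : ∀ (O : X.Opens), O ≤ V → O ≤ V' → ∀ a b : Γ(F, O), a = b := by
    intro O h1 h2 a b
    refine TopCat.Presheaf.section_ext ⟨F.presheaf, F.isSheaf⟩ O a b fun x hx => ?_
    haveI : Subsingleton (F.presheaf.stalk x) := not_not.1 fun h => (h2 hx).2 ⟨h, h1 hx⟩
    exact Subsingleton.elim _ _
  obtain ⟨t, ht, -⟩ := TopCat.Sheaf.existsUnique_gluing' (⟨F.presheaf, F.isSheaf⟩ : TopCat.Sheaf Ab X)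
    cov U (fun b => homOfLE (by cases b; exacts [inf_le_left, hVU]))
    (fun x hx => Opens.mem_iSup.mpr (by
      by_cases h : x ∈ V
      · exact ⟨true, h⟩
      · exact ⟨false, hx, fun hF => h hF.2⟩)) sf (by
      intro a b
      cases a <;> cases b
      · rfl
      · exact hz (cov false ⊓ cov true) inf_le_right inf_le_left _ _
      · exact hz (cov true ⊓ cov false) inf_le_left inf_le_right _ _
      · rfl)
  exact ⟨t, ht true⟩

include k in
/-- Higher cohomology of a coherent module with zero-dimensional support vanishes. -/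
theorem subsingleton_HH_of_support {F : X.Modules} (hF : Coh.IsCoh F)
    (hsupp : topologicalKrullDim (CohB1.support F) ≤ 0) (i : ℕ) : Subsingleton (Coh.HH X F (i + 1)) :=
  haveI := isFlasque_of_support k hF hsupp
  CohTop.Flasque.H_subsingleton (X := X.toPresheafedSpace.carrier) (Coh.toAb F) i

/-- Its Euler characteristic is the dimension of its sections. -/
theorem euler_eq_finrank_of_support {F : X.Modules} (hF : Coh.IsCoh F)
    (hsupp : topologicalKrullDim (CohB1.support F) ≤ 0) :
    Curv2.euler k X F = (Module.finrank k (Coh.HH X F 0) : ℤ) := by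
  rw [euler_eq_sum k (t := 1) (fun n hn => by
    obtain ⟨m, rfl⟩ : ∃ m, n = m + 1 := ⟨n - 1, by omega⟩
    exact subsingleton_HH_of_support k hF hsupp m)]
  simp

theorem euler_nonneg_of_support {F : X.Modules} (hF : Coh.IsCoh F)
    (hsupp : topologicalKrullDim (CohB1.support F) ≤ 0) : 0 ≤ Curv2.euler k X F := by
  rw [euler_eq_finrank_of_support k hF hsupp]
  exact Int.natCast_nonneg _

/-- A coherent module with zero-dimensional support and Euler characteristic zero vanishes. -/
theorem isZero_of_euler_eq_zero {F : X.Modules} (hF : Coh.IsCoh F)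
    (hsupp : topologicalKrullDim (CohB1.support F) ≤ 0) (h : Curv2.euler k X F = 0) : IsZero F := by
  rw [euler_eq_finrank_of_support k hF hsupp] at h
  haveI := finite_HH k F hF 0
  haveI : Subsingleton (Coh.HH X F 0) :=
    Module.finrank_zero_iff.mp (by omega : Module.finrank k (Coh.HH X F 0) = 0)
  haveI : Subsingleton Γ(F, ⊤) := (Sheaf.H.equiv₀ (Coh.toAb F) isTerminalTop).symm.injective.subsingleton
  haveI := isFlasque_of_support k hF hsupp
  rw [IsZero.iff_id_eq_zero]
  ext U m
  change m = 0
  have hsur := TopCat.Presheaf.IsFlasque.epi (X := X.toPresheafedSpace.carrier) (F := (Coh.toAb F).obj)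
    (homOfLE (le_top : U ≤ ⊤)).op
  obtain ⟨t, rfl⟩ := (AddCommGrpCat.epi_iff_surjective _).mp hsur m
  rw [Subsingleton.elim (α := Γ(F, ⊤)) t 0]
  exact map_zero _

end Groth.Agent.EulerChar
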