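import Groth.Agent.VBLib.Basic

/-!
# Ranks of locally free modules at points
-/

universe u

open CategoryTheory AlgebraicGeometry Limits TopologicalSpace
open Groth.Agent.PullStalk.Sky Groth.Agent.PullStalk.Exact

namespace Groth.Agent.EulerChar

variable {X : Scheme.{u}}

/-- The stalks of a module locally free of rank `n` are free of rank `n`. -/
theorem stalk_ofRank {M : X.Modules} {n : ℕ} (h : FlatMod.IsFinLocFreeOfRank n M) (x : X) :
    Nonempty ((Fin n → X.presheaf.stalk x) ≃ₗ[X.presheaf.stalk x] M.presheaf.stalk x) := by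
  obtain ⟨U, hx, ⟨φ⟩⟩ := h x
  obtain ⟨e, he⟩ := VBLib.exists_isFrame_of_iso φ
  exact ⟨LinearEquiv.ofBijective _ (he.stalkComb_bijective x hx)⟩

/-- Ranks add up on short exact sequences. -/
theorem rank_add {S : ShortComplex X.Modules} (hS : S.ShortExact) {n₁ n₂ n₃ : ℕ}
    (h₁ : FlatMod.IsFinLocFreeOfRank n₁ S.X₁) (h₂ : FlatMod.IsFinLocFreeOfRank n₂ S.X₂)
    (h₃ : FlatMod.IsFinLocFreeOfRank n₃ S.X₃) (x : X) : n₂ = n₁ + n₃ := by
  let R := X.presheaf.stalk x
  obtain ⟨hi, he, hs⟩ := stalk_exact hS x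
  obtain ⟨e₁⟩ := stalk_ofRank h₁ x
  obtain ⟨e₂⟩ := stalk_ofRank h₂ x
  obtain ⟨e₃⟩ := stalk_ofRank h₃ x
  have : Module.Free R (S.X₁.presheaf.stalk x) := Module.Free.of_equiv e₁
  have : Module.Free R (S.X₃.presheaf.stalk x) := Module.Free.of_equiv e₃
  have : Module.Finite R (S.X₁.presheaf.stalk x) := Module.Finite.equiv e₁
  have : Module.Finite R (S.X₃.presheaf.stalk x) := Module.Finite.equiv e₃
  obtain ⟨l, hl⟩ := Module.projective_lifting_property (stalkLin S.g x) LinearMap.id hs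
  obtain ⟨e, -⟩ := (he.splitSurjectiveEquiv hi ⟨l, hl⟩)
  have h := LinearEquiv.finrank_eq ((e₂.trans e).trans (e₁.symm.prodCongr e₃.symm))
  rwa [Module.finrank_prod, Module.finrank_fin_fun, Module.finrank_fin_fun, Module.finrank_fin_fun] at h

end Groth.Agent.EulerChar
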