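import Groth.Agent.S0025
import Groth.Agent.S0010
import Groth.Agent.ProperFin.Main
import Groth.Agent.CurveCoh.Euler
import Groth.Agent.CohDev.Coh

/-!
# The Euler characteristic on a proper scheme over a field

`Curv2.euler` is additive on short exact sequences of coherent modules.
-/

universe u

open CategoryTheory CategoryTheory.Limits AlgebraicGeometry TopologicalSpace

set_option linter.style.haveILetI false

namespace Groth.Agent.EulerChar

variable (k : Type u) [Field k] {X : Scheme.{u}} [X.Over (Spec (CommRingCat.of k))]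
  [IsProper (X ↘ Spec (CommRingCat.of k))]

include k in
theorem isLocallyNoetherian : IsLocallyNoetherian X :=
  LocallyOfFiniteType.isLocallyNoetherian (X ↘ Spec (CommRingCat.of k))

include k in
theorem compactSpace : CompactSpace X :=
  QuasiCompact.compactSpace_of_compactSpace (X ↘ Spec (CommRingCat.of k))

/-- Chow's lemma over the base field. -/
theorem chowOver : ProperFin.ChowOver k := fun Z f hf => by
  exact Groth.Agent.S0025.result f

/-- Coherent cohomology of a proper scheme over a field is finite dimensional. -/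
theorem finite_HH (M : X.Modules) (hM : Coh.IsCoh M) (n : ℕ) : Module.Finite k (Coh.HH X M n) :=
  ProperFin.finHH_of_chow (A := k) (chowOver k) M hM n

include k in
theorem isAffineOpen_inf {V W : X.Opens} (hV : IsAffineOpen V) (hW : IsAffineOpen W) :
    IsAffineOpen (V ⊓ W) := by
  haveI : IsSeparated (terminal.from X) := by
    rw [show terminal.from X = (X ↘ Spec (CommRingCat.of k)) ≫ terminal.from _ from Subsingleton.elim _ _]
    infer_instance
  exact hV.inf hW

variable (X) in
include k in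
/-- Quasi-coherent cohomology vanishes above a fixed degree. -/
theorem exists_bound : ∃ t : ℕ, ∀ M : X.Modules, M.IsQuasicoherent → ∀ n, t ≤ n → Subsingleton (Coh.HH X M n) := by
  haveI := compactSpace k (X := X)
  choose W hW hxW _ using fun x : X => exists_isAffineOpen_mem_and_subset (U := (⊤ : X.Opens)) (Opens.mem_top x)
  obtain ⟨s, hs⟩ := CompactSpace.elim_nhds_subcover (fun x : X => (W x : Set X))
    (fun x => (W x).2.mem_nhds (hxW x))
  refine ⟨s.card, fun M hM n hn => ?_⟩
  haveI : Coh.IsQCoh M := hM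
  refine Groth.Agent.S0010.result X s.card (fun j => W (s.equivFin.symm j).1)
    (fun j => hW _) ?_ (fun V V' hV hV' => isAffineOpen_inf k hV hV') M n hn
  refine eq_top_iff.2 fun x _ => ?_
  obtain ⟨y, hy, hxy⟩ := Set.mem_iUnion₂.1 (hs.ge (Set.mem_univ x))
  exact Opens.mem_iSup.2 ⟨s.equivFin ⟨y, hy⟩, by simpa using hxy⟩

/-- The Euler characteristic as a finite sum. -/
theorem euler_eq_sum {M : X.Modules} {t : ℕ} (ht : ∀ n, t ≤ n → Subsingleton (Coh.HH X M n)) :
    Curv2.euler k X M = ∑ i ∈ Finset.range t, (-1 : ℤ) ^ i * (Module.finrank k (Coh.HH X M i) : ℤ) := by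
  refine finsum_eq_sum_of_support_subset _ fun i hi => ?_
  by_contra hn
  haveI := ht i (by simpa using hn)
  exact hi (by
    show (-1 : ℤ) ^ i * _ = 0
    rw [Module.finrank_zero_of_subsingleton, Nat.cast_zero, mul_zero])

/-- The Euler characteristic is additive on short exact sequences of coherent modules. -/
theorem euler_add {S : ShortComplex X.Modules} (hS : S.ShortExact) (h₁ : Coh.IsCoh S.X₁) (h₂ : Coh.IsCoh S.X₂)
    (h₃ : Coh.IsCoh S.X₃) :
    Curv2.euler k X S.X₂ = Curv2.euler k X S.X₁ + Curv2.euler k X S.X₃ := by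
  obtain ⟨t, ht⟩ := exists_bound k X
  rw [euler_eq_sum k (fun n hn => ht S.X₁ h₁.1 n hn), euler_eq_sum k (fun n hn => ht S.X₂ h₂.1 n hn),
    euler_eq_sum k (fun n hn => ht S.X₃ h₃.1 n hn)]
  let r : ℕ → ℤ := fun i => Module.finrank k (LinearMap.range (CurveCoh.mapL k S.f i))
  have key : ∀ i, (Module.finrank k (Coh.HH X S.X₁ i) : ℤ) + Module.finrank k (Coh.HH X S.X₃ i) -
      Module.finrank k (Coh.HH X S.X₂ i) =
      ((Module.finrank k (Coh.HH X S.X₁ i) : ℤ) - r i) + ((Module.finrank k (Coh.HH X S.X₁ (i + 1)) : ℤ) - r (i + 1)) := by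
    intro i
    haveI := finite_HH k S.X₂ h₂ i
    haveI := finite_HH k S.X₃ h₃ i
    haveI := finite_HH k S.X₁ h₁ (i + 1)
    have e1 := CurveCoh.finrank_exact₃ k _ _ (CurveCoh.exact_mapL k hS i)
    have e2 := CurveCoh.finrank_exact₃ k _ _ (CurveCoh.exact_mapL_deltaL k hS i (i + 1) rfl)
    have e3 := CurveCoh.finrank_exact₃ k _ _ (CurveCoh.exact_deltaL_mapL k hS i (i + 1) rfl)
    simp only [r]
    linarith
  have tele : ∀ m : ℕ, ∑ i ∈ Finset.range m, (-1 : ℤ) ^ i *
      ((Module.finrank k (Coh.HH X S.X₁ i) : ℤ) + Module.finrank k (Coh.HH X S.X₃ i) -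
        Module.finrank k (Coh.HH X S.X₂ i)) =
      ((Module.finrank k (Coh.HH X S.X₁ 0) : ℤ) - r 0) -
        (-1 : ℤ) ^ m * ((Module.finrank k (Coh.HH X S.X₁ m) : ℤ) - r m) := by
    intro m
    induction m with
    | zero => simp
    | succ m ih => rw [Finset.sum_range_succ, ih, key m, pow_succ]; ring
  have h0 : (Module.finrank k (Coh.HH X S.X₁ 0) : ℤ) - r 0 = 0 := by
    rw [sub_eq_zero, Nat.cast_inj]
    exact (LinearMap.finrank_range_of_inj (CurveCoh.injective_mapL_zero k hS)).symm
  have ht' : (Module.finrank k (Coh.HH X S.X₁ t) : ℤ) - r t = 0 := by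
    haveI := ht S.X₁ h₁.1 t le_rfl
    haveI : Subsingleton (LinearMap.range (CurveCoh.mapL k S.f t)) :=
      ⟨fun a b => by
        obtain ⟨a', ha'⟩ := a.2
        obtain ⟨b', hb'⟩ := b.2
        exact Subtype.ext (by rw [← ha', ← hb', Subsingleton.elim a' b'])⟩
    simp [r, Module.finrank_zero_of_subsingleton]
  have := tele t
  rw [h0, ht'] at this
  simp only [mul_sub, mul_add, Finset.sum_add_distrib, Finset.sum_sub_distrib, mul_zero, sub_self] at this
  linarith

theorem euler_add' {A B C : X.Modules} (f : A ⟶ B) (g : B ⟶ C) (w : f ≫ g = 0)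
    (hS : (ShortComplex.mk f g w).ShortExact) (h₁ : Coh.IsCoh A) (h₂ : Coh.IsCoh B) (h₃ : Coh.IsCoh C) :
    Curv2.euler k X B = Curv2.euler k X A + Curv2.euler k X C :=
  euler_add k (S := ShortComplex.mk f g w) hS h₁ h₂ h₃

theorem euler_iso {M N : X.Modules} (e : M ≅ N) : Curv2.euler k X M = Curv2.euler k X N := by
  refine finsum_congr fun i => ?_
  congr 2
  have h : ∀ {M N : X.Modules} (e : M ≅ N) (x : Coh.HH X M i),
      CurveCoh.mapL k e.inv i (CurveCoh.mapL k e.hom i x) = x := fun {M N} e x => by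
    show Sheaf.H.map _ i (Sheaf.H.map _ i x) = x
    rw [← Sheaf.H.map_comp_apply, ← Functor.map_comp, e.hom_inv_id, CategoryTheory.Functor.map_id, Sheaf.H.map_id_apply]
  exact LinearEquiv.finrank_eq (LinearEquiv.ofBijective (CurveCoh.mapL k e.hom i)
    ⟨fun x y hxy => (h e x).symm.trans ((congrArg _ hxy).trans (h e y)), fun y => ⟨_, h e.symm y⟩⟩)

omit [IsProper (X ↘ Spec (CommRingCat.of k))] in
theorem euler_of_isZero {M : X.Modules} (h : IsZero M) : Curv2.euler k X M = 0 := by
  refine finsum_eq_zero_of_forall_eq_zero fun i => ?_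
  haveI : Subsingleton (Coh.HH X M i) := subsingleton_of_forall_eq 0 fun x => by
    have e : CurveCoh.mapL k (𝟙 M) i x = x := by
      show Sheaf.H.map _ i x = x
      rw [CategoryTheory.Functor.map_id, Sheaf.H.map_id_apply]
    rw [← e, h.eq_of_src (𝟙 M) 0]
    show Sheaf.H.map _ i x = 0
    rw [Functor.map_zero]
    exact (congrArg (fun e => Abelian.Ext.comp x e (add_zero i)) (Abelian.Ext.mk₀_zero _ _)).trans (Abelian.Ext.comp_zero ..)
  rw [Module.finrank_zero_of_subsingleton, Nat.cast_zero, mul_zero]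

omit [IsProper (X ↘ Spec (CommRingCat.of k))] in
theorem euler_of_isEmpty [IsEmpty X] (M : X.Modules) : Curv2.euler k X M = 0 := by
  refine euler_of_isZero k ((IsZero.iff_id_eq_zero _).2 ?_)
  ext U m
  exact TopCat.Sheaf.eq_of_locally_eq' (Coh.toAb M) (PEmpty.elim : PEmpty.{u + 1} → X.Opens) U
    (fun i => i.elim) (fun x _ => isEmptyElim x) _ _ (fun i => i.elim)

end Groth.Agent.EulerChar
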