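import Groth.Agent.EulerChar.Basic
import Groth.Agent.CohAff.Classes
import Groth.Agent.CohAff.ResOps
import Groth.Agent.CohLin.Basic
import Groth.Agent.ProperFin.Descend

/-!
# Cohomology of direct images along affine morphisms, linearly over the base
-/

universe u

open CategoryTheory CategoryTheory.Limits AlgebraicGeometry TopologicalSpace
open Groth.Agent.CohAff

set_option linter.style.haveILetI false

noncomputable section

namespace Groth.Agent.EulerChar

variable {X Y : Scheme.{u}} {A : Type u} [CommRing A] [X.Over (Spec (CommRingCat.of A))]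
  [Y.Over (Spec (CommRingCat.of A))] (f : X ⟶ Y)
  (w : f ≫ (Y ↘ Spec (CommRingCat.of A)) = X ↘ Spec (CommRingCat.of A))

theorem sect_surjective (R : FRes X) (n : ℕ) : Function.Surjective (ProperFin.sect f R w n) := fun c => by
  obtain ⟨z, hz⟩ := R.clsTop_surjective n c
  refine ⟨(ProperFin.h0Sec ((Scheme.Modules.pushforward f).obj (R.Z n))).symm z, ?_⟩
  exact (congrArg (R.clsTop n) (AddEquiv.apply_symm_apply _ _)).trans hz

variable [IsAffineHom f]

omit [X.Over (Spec (CommRingCat.of A))] in
/-- Classes of the pushed resolution. -/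
def sectPush (R : FRes X) [(R.Z 0).IsQuasicoherent] (n : ℕ) :
    Coh.HH Y ((Scheme.Modules.pushforward f).obj (R.Z n)) 0 →ₗ[A]
      Coh.HH Y ((Scheme.Modules.pushforward f).obj (R.Z 0)) n where
  toFun x := (R.pushAff f).clsTop n (ProperFin.h0Sec _ x)
  map_add' x y := (congrArg ((R.pushAff f).clsTop n) (map_add _ x y)).trans (map_add _ _ _)
  map_smul' a x := (congrArg ((R.pushAff f).clsTop n)
    (ProperFin.h0Sec_smul _ (Coh.toGlobal (Y ↘ Spec (CommRingCat.of A)) a) x)).trans
    ((R.pushAff f).clsTop_smul n _ _)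

include w in
/-- `H^n(Y, f_* M) = H^n(X, M)` over the base ring, for affine `f`. -/
theorem nonempty_pushEquiv (M : X.Modules) (hM : Coh.IsQCoh M) (n : ℕ) :
    Nonempty (Coh.HH Y ((Scheme.Modules.pushforward f).obj M) n ≃ₗ[A] Coh.HH X M n) := by
  haveI : M.IsQuasicoherent := hM
  let R := FRes.ofMod M
  let s := sectPush f (A := A) R n
  let t := ProperFin.sect f R w n
  have hs : Function.Surjective s := fun c => by
    obtain ⟨z, hz⟩ := (R.pushAff f).clsTop_surjective n c
    exact ⟨(ProperFin.h0Sec _).symm z,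
      (congrArg ((R.pushAff f).clsTop n) (AddEquiv.apply_symm_apply _ _)).trans hz⟩
  have hker : LinearMap.ker s = LinearMap.ker t := by
    ext x
    rw [LinearMap.mem_ker, LinearMap.mem_ker]
    exact ((R.pushAff f).clsTop_eq_zero_iff n _).trans
      ((R.ex_pushAff_iff f n ⊤ _).trans (R.clsTop_eq_zero_iff n _).symm)
  exact ⟨(s.quotKerEquivOfSurjective hs).symm.trans ((Submodule.quotEquivOfEq _ _ hker).trans
    (t.quotKerEquivOfSurjective (sect_surjective f w R n)))⟩

end Groth.Agent.EulerChar

namespace Groth.Agent.EulerChar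

variable {X Y : Scheme.{u}} {k : Type u} [Field k] [X.Over (Spec (CommRingCat.of k))]
  [Y.Over (Spec (CommRingCat.of k))] (f : X ⟶ Y) [IsAffineHom f]
  (w : f ≫ (Y ↘ Spec (CommRingCat.of k)) = X ↘ Spec (CommRingCat.of k))

include w in
/-- `χ(Y, f_* M) = χ(X, M)` for affine `f`. -/
theorem euler_push (M : X.Modules) (hM : Coh.IsQCoh M) :
    Curv2.euler k Y ((Scheme.Modules.pushforward f).obj M) = Curv2.euler k X M :=
  finsum_congr fun i => by rw [(nonempty_pushEquiv f w M hM i).some.finrank_eq]

end Groth.Agent.EulerChar
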