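import Groth.Agent.EulerChar.Curve
import Groth.Agent.EulerChar.Push
import Groth.Agent.ProjForm.Derived
import Groth.Prelude.Def_ResDeg
import Mathlib.AlgebraicGeometry.ZariskisMainTheorem
import Mathlib.AlgebraicGeometry.FunctionField
import Mathlib.Topology.Sheaves.Stalks

/-!
# Degrees along finite maps of curves
-/

universe u

open CategoryTheory CategoryTheory.Limits AlgebraicGeometry TopologicalSpace Opposite
open Groth.Agent.PullStalk.Sky Groth.Agent.PullStalk.Exact

set_option linter.style.haveILetI false

namespace Groth.Agent.EulerChar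

variable {k : Type u} [Field k] {X Y : Scheme.{u}} [X.Over (Spec (CommRingCat.of k))]
  [Y.Over (Spec (CommRingCat.of k))] [IsProper (X ↘ Spec (CommRingCat.of k))]
  [IsProper (Y ↘ Spec (CommRingCat.of k))] (f : X ⟶ Y)
  (w : f ≫ (Y ↘ Spec (CommRingCat.of k)) = X ↘ Spec (CommRingCat.of k))

include w in
theorem isProper_hom : IsProper f := by
  haveI : IsProper (f ≫ (Y ↘ Spec (CommRingCat.of k))) := by rw [w]; infer_instance
  exact IsProper.of_comp f (Y ↘ Spec (CommRingCat.of k))

variable [IsIntegral X] [IsIntegral Y] (hX : topologicalKrullDim X = 1) (hY : topologicalKrullDim Y = 1)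
  (hξ : f.base (genericPoint X) = genericPoint Y)

include k w hX hY hξ in
theorem eq_genericPoint_of_map_eq {x : X} (hx : f x = f (genericPoint X)) : x = genericPoint X := by
  haveI := isProper_hom f w
  by_contra hne
  have hcl : IsClosed ({f x} : Set Y) := by
    rw [← Set.image_singleton]
    exact f.isClosedMap _ (VarDim.isClosed_singleton_of_ne_genericPoint k hX hne)
  rw [hx, show f (genericPoint X) = genericPoint Y from hξ] at hcl
  have huniv : (Set.univ : Set Y) = {genericPoint Y} :=
    (genericPoint_spec Y).def.symm.trans hcl.closure_eq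
  have h0 : topologicalKrullDim Y ≤ 0 := by
    rw [← IsHomeomorph.topologicalKrullDim_eq _ (Homeomorph.Set.univ Y).isHomeomorph]
    exact topDim_le_zero_of_finite (huniv ▸ Set.finite_singleton _) fun z _ => by
      rwa [show z = genericPoint Y from huniv.le (Set.mem_univ z)]
  rw [hY] at h0
  norm_num at h0

include k w hX hY hξ in
/-- A nonconstant morphism of proper curves is finite. -/
theorem isFinite_of_curves : IsFinite f := by
  haveI := isProper_hom f w
  haveI := compactSpace k (X := X)
  haveI := LocallyQuasiFinite.of_finite_preimage_singleton f fun y => by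
    by_cases hy : y = f (genericPoint X)
    · refine (Set.finite_singleton (genericPoint X)).subset fun x hx => ?_
      exact eq_genericPoint_of_map_eq f w hX hY hξ ((show f x = y from hx).trans hy)
    · have hyc : IsClosed ({y} : Set Y) :=
        VarDim.isClosed_singleton_of_ne_genericPoint k hY fun h => hy (h.trans hξ.symm)
      exact VarDim.finite_of_isClosed k hX (hyc.preimage f.continuous) fun h => hy h.symm
  exact IsFinite.of_isProper_of_locallyQuasiFinite _

section stalk

omit [X.Over (Spec (CommRingCat.of k))] [Y.Over (Spec (CommRingCat.of k))]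

/-- The germs of the pushed structure module at the image of the generic point. -/
noncomputable def pushGerm :
    ((Scheme.Modules.pushforward f).obj (Coh.structureModule X)).presheaf.stalk (f (genericPoint X)) →+
      (Coh.structureModule X).presheaf.stalk (genericPoint X) :=
  AddMonoidHom.mk' (fun t => ((Coh.structureModule X).presheaf.stalkPushforward Ab f.base (genericPoint X)) t)
    fun a b => map_add _ a b

theorem pushGerm_germ (W : Y.Opens) (hW : f (genericPoint X) ∈ W) (s : Γ(X, f ⁻¹ᵁ W)) :
    pushGerm f (germM ((Scheme.Modules.pushforward f).obj (Coh.structureModule X)) W (f (genericPoint X)) hW s) =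
      germM (Coh.structureModule X) (f ⁻¹ᵁ W) (genericPoint X) hW s :=
  (ConcreteCategory.comp_apply _ _ _).symm.trans (ConcreteCategory.congr_hom
    (TopCat.Presheaf.stalkPushforward_germ Ab f.base (Coh.structureModule X).presheaf W (genericPoint X) hW) s)

theorem pushGerm_smul (r : Y.presheaf.stalk (f (genericPoint X)))
    (t : ((Scheme.Modules.pushforward f).obj (Coh.structureModule X)).presheaf.stalk (f (genericPoint X))) :
    pushGerm f (r • t) = f.stalkMap (genericPoint X) r • pushGerm f t := by
  obtain ⟨W, hW, s, rfl⟩ := exists_germM_eq _ _ t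
  obtain ⟨W', hW', a, rfl⟩ := Y.presheaf.exists_germ_eq (x := f (genericPoint X)) r
  rw [← Y.presheaf.germ_res_apply (homOfLE (inf_le_right : W ⊓ W' ≤ W')) _ ⟨hW, hW'⟩ a,
    show germM _ W (f (genericPoint X)) hW s = germM _ (W ⊓ W') (f (genericPoint X)) ⟨hW, hW'⟩
      (((Scheme.Modules.pushforward f).obj (Coh.structureModule X)).presheaf.map (homOfLE inf_le_left).op s) from
      (((Scheme.Modules.pushforward f).obj (Coh.structureModule X)).presheaf.germ_res_apply
        (homOfLE (inf_le_left : W ⊓ W' ≤ W)) _ ⟨hW, hW'⟩ s).symm,
    ← germM_smul, Scheme.Hom.germ_stalkMap_apply]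
  refine (pushGerm_germ f _ _ _).trans ?_
  refine Eq.trans ?_ (congrArg _ (pushGerm_germ f _ _ _).symm)
  exact germM_smul (Coh.structureModule X) (f ⁻¹ᵁ (W ⊓ W')) (genericPoint X) ⟨hW, hW'⟩ _ _

variable [IsFinite f]

theorem bijective_pushGerm (huniq : ∀ x : X, f x = f (genericPoint X) → x = genericPoint X) :
    Function.Bijective (pushGerm f) := by
  constructor
  · refine (injective_iff_map_eq_zero _).2 fun t ht => ?_
    obtain ⟨W, hW, s, rfl⟩ := exists_germM_eq _ _ t
    rw [pushGerm_germ] at ht
    rw [show s = 0 from eq_zero_of_germ_generic (ProjTwist.isFinLocFreeOfRank_one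
      (PicLoc.isInvertible_structureModule X)) (U := f ⁻¹ᵁ W) hW s ht]
    exact map_zero _
  · intro c
    obtain ⟨N, hN, s, rfl⟩ := exists_germM_eq (Coh.structureModule X) (genericPoint X) c
    let W : Y.Opens := ⟨(f '' (N : Set X)ᶜ)ᶜ, (f.isClosedMap _ N.2.isClosed_compl).isOpen_compl⟩
    have hW : f (genericPoint X) ∈ W := fun ⟨x, hx, he⟩ => hx (huniq x he ▸ hN)
    have hle : f ⁻¹ᵁ W ≤ N := fun x hx => by_contra fun h => hx ⟨x, h, rfl⟩
    refine ⟨germM _ W _ hW ((Coh.structureModule X).presheaf.map (homOfLE hle).op s), ?_⟩
    refine (pushGerm_germ f W hW _).trans ?_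
    exact (Coh.structureModule X).presheaf.germ_res_apply (homOfLE hle) _ _ s

/-- The rank of the pushed structure module is the residue degree. -/
theorem finrank_stalk_push (huniq : ∀ x : X, f x = f (genericPoint X) → x = genericPoint X)
    (hgen : f (genericPoint X) = genericPoint Y) :
    Module.finrank (Y.presheaf.stalk (f (genericPoint X)))
      (((Scheme.Modules.pushforward f).obj (Coh.structureModule X)).presheaf.stalk (f (genericPoint X))) =
      f.residueDegree (genericPoint X) := by
  obtain ⟨eO⟩ := stalk_ofRank (ProjTwist.isFinLocFreeOfRank_one (PicLoc.isInvertible_structureModule X))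
    (genericPoint X)
  letI := (f.stalkMap (genericPoint X)).hom.toAlgebra
  letI := Module.compHom ((Coh.structureModule X).presheaf.stalk (genericPoint X)) (f.stalkMap (genericPoint X)).hom
  haveI : IsScalarTower (Y.presheaf.stalk (f (genericPoint X))) (X.presheaf.stalk (genericPoint X))
      ((Coh.structureModule X).presheaf.stalk (genericPoint X)) :=
    ⟨fun r s m => mul_smul ((f.stalkMap (genericPoint X)).hom r) s m⟩
  let e : ((Scheme.Modules.pushforward f).obj (Coh.structureModule X)).presheaf.stalk (f (genericPoint X)) ≃ₗ[Y.presheaf.stalk (f (genericPoint X))]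
      (Coh.structureModule X).presheaf.stalk (genericPoint X) :=
    LinearEquiv.ofBijective
      ({ toFun := pushGerm f
         map_add' := map_add _
         map_smul' := pushGerm_smul f } :
        ((Scheme.Modules.pushforward f).obj (Coh.structureModule X)).presheaf.stalk (f (genericPoint X))
          →ₗ[Y.presheaf.stalk (f (genericPoint X))]
          (Coh.structureModule X).presheaf.stalk (genericPoint X)) (bijective_pushGerm f huniq)
  rw [e.finrank_eq, ← (((LinearEquiv.funUnique (Fin 1) (X.presheaf.stalk (genericPoint X))
    (X.presheaf.stalk (genericPoint X))).symm.trans eO).restrictScalars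
      (Y.presheaf.stalk (f (genericPoint X)))).finrank_eq, Scheme.Hom.residueDegree]
  letI := (f.residueFieldMap (genericPoint X)).hom.toAlgebra
  have hY' : IsField (Y.presheaf.stalk (f (genericPoint X))) := by
    rw [hgen]
    exact Field.toIsField Y.functionField
  have hX' : IsField (X.presheaf.stalk (genericPoint X)) := Field.toIsField X.functionField
  have b : ∀ {Z : Scheme.{u}} (z : Z), IsField (Z.presheaf.stalk z) → Function.Bijective (Z.residue z) :=
    fun {Z} z h => by
      refine ⟨(injective_iff_map_eq_zero _).2 fun a ha => ?_, Z.residue_surjective z⟩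
      have : a ∈ IsLocalRing.maximalIdeal (Z.presheaf.stalk z) := Ideal.Quotient.eq_zero_iff_mem.1 ha
      rwa [IsLocalRing.isField_iff_maximalIdeal_eq.1 h, Ideal.mem_bot] at this
  refine Algebra.finrank_eq_of_equiv_equiv (RingEquiv.ofBijective (Y.residue _).hom (b _ hY'))
    (RingEquiv.ofBijective (X.residue _).hom (b _ hX')) ?_
  refine RingHom.ext fun a => ?_
  exact ConcreteCategory.congr_hom (Scheme.residue_residueFieldMap f (genericPoint X)) a

end stalk

include w hX hY hξ in
/-- The degree of a pullback along a nonconstant morphism of curves. -/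
theorem deg_pullback {n : ℕ} {E : Y.Modules} (hE : FlatMod.IsFinLocFreeOfRank n E) :
    Curv2.deg k X ((Scheme.Modules.pullback f).obj E) n =
      (f.residueDegree (genericPoint X) : ℤ) * Curv2.deg k Y E n := by
  haveI := isFinite_of_curves f w hX hY hξ
  haveI := isNoetherian k (X := Y)
  have hO := ProjTwist.isFinLocFreeOfRank_one (PicLoc.isInvertible_structureModule X)
  have hP : Coh.IsCoh ((Scheme.Modules.pushforward f).obj (Coh.structureModule X)) :=
    ProperFin.isCoh_push_of_isFinite f _ (VBLib.isCoh_of_ofRank hO)
  haveI := (VBLib.isCoh_of_ofRank hE).1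
  haveI : (Coh.structureModule X).IsQuasicoherent := (VBLib.isCoh_of_ofRank hO).1
  let θ : CohDev.tens E ((Scheme.Modules.pushforward f).obj (Coh.structureModule X)) ≅
      (Scheme.Modules.pushforward f).obj ((Scheme.Modules.pullback f).obj E) :=
    ProjTwist.tensComm E _ ≪≫
      (ProjForm.projNatIso f (VBLib.isFinLocFree_of_ofRank hE)).app (Coh.structureModule X) ≪≫
      (Scheme.Modules.pushforward f).mapIso (ProjTwist.oneTens _)
  have h := dev_eq_rank_mul k hY hE hP
  rw [dev_kcl k hE hP, euler_iso k θ,
    euler_push f w _ inferInstance, euler_push f w _ inferInstance] at h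
  rw [Curv2.deg, h]
  congr 1
  have hgen : ∀ y : Y, y = f (genericPoint X) →
      Module.finrank (Y.presheaf.stalk y) (((Scheme.Modules.pushforward f).obj (Coh.structureModule X)).presheaf.stalk y) =
      f.residueDegree (genericPoint X) := by
    rintro y rfl
    exact finrank_stalk_push f (fun x => eq_genericPoint_of_map_eq f w hX hY hξ) hξ
  exact_mod_cast hgen _ hξ.symm

end Groth.Agent.EulerChar
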