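import Groth.Agent.EulerChar.Torsion
import Groth.Agent.EulerChar.Rank
import Groth.Agent.CohDev.TensorCoh
import Groth.Agent.ProjTwist.Tensor

/-!
# Degrees of locally free modules on a proper scheme of dimension at most one

The Euler characteristic descends to `K₀` of coherent modules; twisting by a locally free module of rank
`r` changes it by `r` times plus a term vanishing on classes with zero-dimensional support.
-/

universe u

open CategoryTheory CategoryTheory.Limits AlgebraicGeometry TopologicalSpace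

set_option linter.style.haveILetI false

namespace Groth.Agent.EulerChar

open CohDev (kcl)

variable {X : Scheme.{u}}

/-- An additive function on coherent modules descends to `K₀`. -/
noncomputable def liftK (f : X.Modules → ℤ)
    (hf : ∀ S : ShortComplex X.Modules, S.ShortExact → Coh.IsCoh S.X₁ → Coh.IsCoh S.X₂ → Coh.IsCoh S.X₃ →
      f S.X₂ = f S.X₁ + f S.X₃) : SGA6.Kcoh X →+ ℤ :=
  QuotientAddGroup.lift _ (FreeAbelianGroup.lift fun M => f M.1) (by
    rw [KZero.relSub, AddSubgroup.closure_le]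
    rintro x ⟨S, h₁, h₂, h₃, hS, rfl⟩
    rw [SetLike.mem_coe, AddMonoidHom.mem_ker, map_sub, map_sub, FreeAbelianGroup.lift_apply_of,
      FreeAbelianGroup.lift_apply_of, FreeAbelianGroup.lift_apply_of, hf S hS h₁ h₂ h₃]
    ring)

theorem liftK_kcl (f : X.Modules → ℤ) (hf) {M : X.Modules} (hM : Coh.IsCoh M) :
    liftK f hf (kcl M) = f M := by
  show liftK f hf (KZero.clSub _ M) = f M
  rw [KZero.clSub, dif_pos hM]
  exact FreeAbelianGroup.lift_apply_of _ _

theorem support_eq_empty_of_dim_lt {G : X.Modules}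
    (h : topologicalKrullDim ↥(CohB1.support G) < ((0 : ℕ) : WithBot ℕ∞)) : CohB1.support G = ∅ := by
  by_contra hne
  haveI : Nonempty ↥(CohB1.support G) := Set.nonempty_coe_sort.2 (Set.nonempty_iff_ne_empty.2 hne)
  exact absurd (TopDimLib.topDim_nonneg_of_nonempty (X := ↥(CohB1.support G))) (by
    rw [not_le]; exact h)

theorem dim_support_le {G : X.Modules} {d : WithBot ℕ∞} (h : topologicalKrullDim X ≤ d) :
    topologicalKrullDim ↥(CohB1.support G) ≤ d :=
  (topologicalKrullDim_subspace_le X (CohB1.support G)).trans h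

variable (k : Type u) [Field k] [X.Over (Spec (CommRingCat.of k))] [IsProper (X ↘ Spec (CommRingCat.of k))]

include k in
theorem isNoetherian : IsNoetherian X :=
  haveI := isLocallyNoetherian k (X := X)
  haveI := compactSpace k (X := X)
  ⟨⟩

/-- `M ⊗ O ≅ M`. -/
noncomputable def tensOne' (M : X.Modules) : CohDev.tens M (Coh.structureModule X) ≅ M :=
  ProjTwist.tensOne M

/-- The Euler characteristic on `K₀`. -/
noncomputable def eulerK : SGA6.Kcoh X →+ ℤ :=
  liftK (Curv2.euler k X) fun _ hS h₁ h₂ h₃ => euler_add k hS h₁ h₂ h₃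

theorem eulerK_kcl {M : X.Modules} (hM : Coh.IsCoh M) : eulerK k (kcl M) = Curv2.euler k X M :=
  liftK_kcl _ _ hM

variable {r : ℕ} {V : X.Modules} (hV : FlatMod.IsFinLocFreeOfRank r V)

include k hV in
theorem isCoh_tens {M : X.Modules} (hM : Coh.IsCoh M) : Coh.IsCoh (CohDev.tens V M) :=
  haveI := isNoetherian k (X := X)
  CohDev.isCoh_tens hV hM

/-- `G ↦ χ(V ⊗ G) - r χ(G)` on `K₀`. -/
noncomputable def dev : SGA6.Kcoh X →+ ℤ :=
  liftK (fun G => Curv2.euler k X (CohDev.tens V G) - r * Curv2.euler k X G) fun S hS h₁ h₂ h₃ => by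
    have h := euler_add k (CohDev.tens_shortExact hV hS) (isCoh_tens k hV h₁) (isCoh_tens k hV h₂)
      (isCoh_tens k hV h₃)
    simp only [ShortComplex.map_X₁, ShortComplex.map_X₂, ShortComplex.map_X₃] at h
    show Curv2.euler k X (CohDev.tens V S.X₂) - _ = _
    rw [h, euler_add k hS h₁ h₂ h₃]
    ring

theorem dev_kcl {M : X.Modules} (hM : Coh.IsCoh M) :
    dev k hV (kcl M) = Curv2.euler k X (CohDev.tens V M) - r * Curv2.euler k X M :=
  liftK_kcl _ _ hM

include hV in
theorem euler_tens_of_support {G : X.Modules} (hG : Coh.IsCoh G)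
    (h : topologicalKrullDim ↥(CohB1.support G) ≤ 0) :
    Curv2.euler k X (CohDev.tens V G) = r * Curv2.euler k X G := by
  haveI := isNoetherian k (X := X)
  have hmem := CohDev.kcl_tens_sub_mem_filt hV hG 0 (by simpa using h)
  have hbot : AddSubgroup.closure {c : SGA6.Kcoh X | ∃ G : X.Modules, Coh.IsCoh G ∧
      topologicalKrullDim ↥(CohB1.support G) < ((0 : ℕ) : WithBot ℕ∞) ∧ c = kcl G} ≤ (eulerK k).ker := by
    rw [AddSubgroup.closure_le]
    rintro c ⟨H, hH, hd, rfl⟩
    rw [SetLike.mem_coe, AddMonoidHom.mem_ker, eulerK_kcl k hH]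
    exact euler_of_isZero k (CohDev.isZero_of_support_eq_empty (support_eq_empty_of_dim_lt hd))
  have h0 := hbot hmem
  rw [AddMonoidHom.mem_ker, map_sub, map_nsmul, eulerK_kcl k (isCoh_tens k hV hG), eulerK_kcl k hG,
    nsmul_eq_mul, sub_eq_zero] at h0
  exact h0

include hV in
theorem dev_eq_zero_of_support {G : X.Modules} (hG : Coh.IsCoh G)
    (h : topologicalKrullDim ↥(CohB1.support G) ≤ 0) : dev k hV (kcl G) = 0 := by
  rw [dev_kcl k hV hG, euler_tens_of_support k hV hG h, sub_self]

/-- `dev` kills the classes of dimension below one. -/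
theorem dev_eq_zero_of_mem {c : SGA6.Kcoh X}
    (hc : c ∈ AddSubgroup.closure {c : SGA6.Kcoh X | ∃ G : X.Modules, Coh.IsCoh G ∧
      topologicalKrullDim ↥(CohB1.support G) < ((1 : ℕ) : WithBot ℕ∞) ∧ c = kcl G}) : dev k hV c = 0 := by
  have hle : AddSubgroup.closure {c : SGA6.Kcoh X | ∃ G : X.Modules, Coh.IsCoh G ∧
      topologicalKrullDim ↥(CohB1.support G) < ((1 : ℕ) : WithBot ℕ∞) ∧ c = kcl G} ≤ (dev k hV).ker := by
    rw [AddSubgroup.closure_le]
    rintro c ⟨G, hG, hd, rfl⟩
    exact dev_eq_zero_of_support k hV hG (by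
      revert hd
      cases topologicalKrullDim ↥(CohB1.support G) with
      | bot => intro _; exact bot_le
      | coe a => intro hd; exact WithBot.coe_le_coe.2 (ENat.lt_one_iff_eq_zero.1 (WithBot.coe_lt_coe.1 hd)).le)
  exact hle hc

theorem dev_structure : dev k hV (kcl (Coh.structureModule X)) = Curv2.deg k X V r := by
  rw [dev_kcl k hV (VBLib.isCoh_of_ofRank (ProjTwist.isFinLocFreeOfRank_one
    (PicLoc.isInvertible_structureModule X))), Curv2.deg]
  rw [euler_iso k (tensOne' V)]

include hV in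
/-- The degree of a tensor product. -/
theorem deg_tens (hdim : topologicalKrullDim X ≤ 1) {m : ℕ} {W : X.Modules}
    (hW : FlatMod.IsFinLocFreeOfRank m W) :
    Curv2.deg k X (CohDev.tens V W) (r * m) = r * Curv2.deg k X W m + m * Curv2.deg k X V r := by
  haveI := isNoetherian k (X := X)
  have hO := ProjTwist.isFinLocFreeOfRank_one (PicLoc.isInvertible_structureModule X)
  have hOc := VBLib.isCoh_of_ofRank hO
  have hmem := CohDev.kcl_tens_sub_mem_filt hW hOc 1 (by simpa using dim_support_le hdim)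
  have h0 := dev_eq_zero_of_mem k hV hmem
  rw [map_sub, map_nsmul, CohDev.kcl_iso (tensOne' W) (CohDev.isCoh_tens hW hOc),
    dev_structure k hV, dev_kcl k hV (VBLib.isCoh_of_ofRank hW), nsmul_eq_mul] at h0
  simp only [Curv2.deg] at h0 ⊢
  push_cast
  linarith

end Groth.Agent.EulerChar
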