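import Groth.Agent.EulerChar.Deg
import Groth.Agent.IdealSh.Regular
import Groth.Agent.Omega.Stalks
import Groth.Agent.CycLib.PushStalk
import Groth.Agent.TopDimLib.Basic
import Mathlib.AlgebraicGeometry.ZariskisMainTheorem

/-!
# Effective Cartier divisors on proper schemes of dimension at most one
-/

universe u

open CategoryTheory CategoryTheory.Limits AlgebraicGeometry TopologicalSpace
open Groth.Agent.PullStalk.Sky Groth.Agent.PullStalk.Exact

set_option linter.style.haveILetI false

namespace Groth.Agent.EulerChar

variable {X : Scheme.{u}} (D : X.IdealSheafData)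

theorem epi_toSubscheme : Epi (ClSub.toSubscheme D) := by
  refine Omega.Stalks.epi_of_stalk fun x => ?_
  by_cases hx : x ∈ Set.range D.subschemeι
  · obtain ⟨z, rfl⟩ := hx
    intro t
    obtain ⟨c, rfl⟩ := CycLib.toPushStalk_surjective D.subschemeι z t
    obtain ⟨W, hW, r, rfl⟩ := X.presheaf.exists_germ_eq (x := D.subschemeι z) c
    refine ⟨germM (Coh.structureModule X) W (D.subschemeι z) hW r, ?_⟩
    exact (stalkLin_germ (ClSub.toSubscheme D) W _ hW r).trans
      (CycLib.toPushStalk_germ D.subschemeι z hW r).symm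
  · haveI := CycLib.subsingleton_stalk_push_of_not_mem D.subschemeι hx
    exact fun t => ⟨0, @Subsingleton.elim _ this _ _⟩

theorem support_quotMod_subset : CohB1.support (ClSub.quotMod D) ⊆ (D.support : Set X) := by
  intro x hx
  rw [← Scheme.IdealSheafData.range_subschemeι]
  by_contra h
  exact hx (CycLib.subsingleton_stalk_push_of_not_mem D.subschemeι h)

/-- The sequence of an ideal sheaf. -/
theorem shortExact_ideal :
    (ShortComplex.mk (ClSub.idealModι D) (ClSub.toSubscheme D) (kernel.condition _)).ShortExact :=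
  { exact := ShortComplex.exact_of_f_is_kernel _ (kernelIsKernel _)
    mono_f := inferInstanceAs (Mono (kernel.ι (ClSub.toSubscheme D)))
    epi_g := epi_toSubscheme D }

/-- Points of an effective Cartier divisor in a scheme of dimension at most one are closed. -/
theorem isClosed_singleton_of_mem_support (hdim : topologicalKrullDim X ≤ 1)
    (hD : BlowUp.IsEffCartierIdeal D) {z : X} (hz : z ∈ (D.support : Set X)) : IsClosed ({z} : Set X) := by
  obtain ⟨w, hwz, hne'⟩ : ∃ w : X, w ⤳ z ∧ w ≠ z := by
    by_contra h
    push Not at h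
    exact IdealSh.Regular.not_mem_support_of_maximal hD z h hz
  refine isClosed_of_closure_subset fun y hy => Set.mem_singleton_iff.2 (by_contra fun hne => ?_)
  let c : X → IrreducibleCloseds X := fun z =>
    ⟨closure {z}, isIrreducible_singleton.closure, isClosed_closure⟩
  have hlt : ∀ {a b : X}, b ⤳ a → a ≠ b → c a < c b := by
    intro a b hab hn
    refine lt_of_le_of_ne (show closure {a} ⊆ closure {b} from hab.closure_subset) fun h => hn ?_
    exact (inseparable_iff_closure_eq.2 (congrArg (fun s : IrreducibleCloseds X => (s : Set X)) h)).eq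
  let ser : LTSeries (IrreducibleCloseds X) :=
    LTSeries.mk 2 ![c y, c z, c w] (Fin.strictMono_iff_lt_succ.2 fun i => by
      fin_cases i
      · exact hlt (specializes_iff_mem_closure.2 hy) hne
      · exact hlt hwz hne'.symm)
  have h2 := (Order.LTSeries.length_le_krullDim ser).trans hdim
  change ((2 : ℕ) : WithBot ℕ∞) ≤ 1 at h2
  norm_num at h2

theorem dim_support_divisor (hdim : topologicalKrullDim X ≤ 1) (hD : BlowUp.IsEffCartierIdeal D) :
    topologicalKrullDim ↥(D.support : Set X) ≤ 0 := by
  haveI : QuasiSober ↥(D.support : Set X) := D.support.isClosed.isClosedEmbedding_subtypeVal.quasiSober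
  refine Order.krullDim_nonpos_iff_forall_isMax.2 fun A B hAB => ?_
  obtain ⟨g, hg⟩ := QuasiSober.sober B.isIrreducible' B.isClosed'
  obtain ⟨a, ha⟩ := A.isIrreducible'.nonempty
  have hc : IsClosed ({g} : Set ↥(D.support : Set X)) := by
    have h := (isClosed_singleton_of_mem_support D hdim hD g.2).preimage
      (continuous_subtype_val (p := (· ∈ (D.support : Set X))))
    rwa [show Subtype.val ⁻¹' {g.1} = ({g} : Set ↥(D.support : Set X)) by ext z; exact Subtype.ext_iff.symm] at h
  have hB : (B : Set ↥(D.support : Set X)) = {g} := hg.def.symm.trans hc.closure_eq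
  intro b hb
  have h1 : b = g := hB.le hb
  have h2 : a = g := hB.le (hAB ha)
  rwa [h1, ← h2]

variable (k : Type u) [Field k] [X.Over (Spec (CommRingCat.of k))] [IsProper (X ↘ Spec (CommRingCat.of k))]

include k in
theorem isFinite_of_dim_support (h : topologicalKrullDim ↥(D.support : Set X) ≤ 0) :
    IsFinite (D.subschemeι ≫ (X ↘ Spec (CommRingCat.of k))) := by
  haveI := isNoetherian k (X := X)
  obtain ⟨hfin, -⟩ := TopDimLib.finite_and_discrete_of_topDim_le_zero h
  haveI : Finite D.subscheme := by
    refine Finite.of_injective (fun z => (⟨D.subschemeι z, ?_⟩ : ↥(D.support : Set X))) fun a b hab =>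
      D.subschemeι.isEmbedding.injective (congrArg Subtype.val hab)
    rw [← Scheme.IdealSheafData.range_subschemeι]
    exact ⟨z, rfl⟩
  haveI := LocallyQuasiFinite.of_finite_preimage_singleton (D.subschemeι ≫ (X ↘ Spec (CommRingCat.of k)))
    fun _ => Set.toFinite _
  exact IsFinite.of_isProper_of_locallyQuasiFinite _

/-- Additivity, on the image of a short complex under a functor. -/
theorem euler_add_map (F : X.Modules ⥤ X.Modules) [F.PreservesZeroMorphisms] {A B C : X.Modules}
    (f : A ⟶ B) (g : B ⟶ C) (w : f ≫ g = 0) (hS : ((ShortComplex.mk f g w).map F).ShortExact)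
    (h₁ : Coh.IsCoh (F.obj A)) (h₂ : Coh.IsCoh (F.obj B)) (h₃ : Coh.IsCoh (F.obj C)) :
    Curv2.euler k X (F.obj B) = Curv2.euler k X (F.obj A) + Curv2.euler k X (F.obj C) :=
  euler_add' k (F.map f) (F.map g) _ hS h₁ h₂ h₃

attribute [local irreducible] Curv2.euler

include k in
/-- The degree of the inverse of the ideal of a divisor. -/
theorem deg_inverse_ideal (hdim : topologicalKrullDim X ≤ 1) (hD : BlowUp.IsEffCartierIdeal D)
    {L : X.Modules} (hL : PicF.IsInvertible L) (e : CohB1.tensorMod L (ClSub.idealMod D) ≅ Coh.structureModule X) :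
    Curv2.deg k X L 1 = Module.finrank k (Coh.HH X (ClSub.quotMod D) 0) := by
  haveI := isNoetherian k (X := X)
  have hO := VBLib.isCoh_of_ofRank
    (ProjTwist.isFinLocFreeOfRank_one (PicLoc.isInvertible_structureModule X))
  haveI : (Coh.structureModule D.subscheme).IsQuasicoherent :=
    ProjTwist.isQuasicoherent_structureModule D.subscheme
  have hI : Coh.IsCoh (ClSub.idealMod D) :=
    CohDev.isCoh_kernel (ClSub.toSubscheme D) hO (QCoh.isQuasicoherent_pushforward D.subschemeι _)
  have hS := shortExact_ideal D
  have hQ : Coh.IsCoh (ClSub.quotMod D) :=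
    CohDev.isCoh_of_iso ((cokernelIsCokernel (ClSub.idealModι D)).coconePointUniqueUpToIso hS.gIsCokernel)
      (CohDev.isCoh_cokernel (ClSub.idealModι D) hI.1 hO)
  have hs := (TopDimLib.topDim_le_of_subset (support_quotMod_subset D)).trans (dim_support_divisor D hdim hD)
  have hL1 := ProjTwist.isFinLocFreeOfRank_one hL
  have hT := CohDev.tens_shortExact hL1 hS
  have h1 : Curv2.euler k X (CohDev.tens L (Coh.structureModule X)) =
      Curv2.euler k X (CohDev.tens L (ClSub.idealMod D)) + Curv2.euler k X (CohDev.tens L (ClSub.quotMod D)) :=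
    euler_add_map k (DCoh.tensorBi.obj L) (ClSub.idealModι D) (ClSub.toSubscheme D) (kernel.condition _) hT
      (isCoh_tens k hL1 hI) (isCoh_tens k hL1 hO) (isCoh_tens k hL1 hQ)
  rw [euler_iso k (show CohDev.tens L (ClSub.idealMod D) ≅ _ from e), euler_iso k (tensOne' L),
    euler_tens_of_support k hL1 hQ hs, euler_eq_finrank_of_support k hQ hs] at h1
  rw [Curv2.deg, h1]
  simp

end Groth.Agent.EulerChar
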