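import Groth.Agent.EulerChar.Deg
import Groth.Agent.EulerChar.Push
import Groth.Agent.ChgRings.Basic

/-!
# Degrees on closed subschemes
-/

universe u

open CategoryTheory CategoryTheory.Limits AlgebraicGeometry TopologicalSpace

set_option linter.style.haveILetI false

namespace Groth.Agent.EulerChar

variable {X : Scheme.{u}}

/-- The projection formula for the structure sheaf of a closed subscheme. -/
noncomputable def tensQuotIso {Z : Scheme.{u}} (ι : Z ⟶ X) [IsClosedImmersion ι] (E : X.Modules) :
    CohDev.tens E ((Scheme.Modules.pushforward ι).obj (Coh.structureModule Z)) ≅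
      (Scheme.Modules.pushforward ι).obj ((Scheme.Modules.pullback ι).obj E) :=
  (ChgRings.projIso ι (Coh.structureModule Z)).app E ≪≫
    (Scheme.Modules.pushforward ι).mapIso (ProjTwist.tensOne ((Scheme.Modules.pullback ι).obj E))

variable (k : Type u) [Field k] [X.Over (Spec (CommRingCat.of k))] [IsProper (X ↘ Spec (CommRingCat.of k))]

include k in
theorem isCoh_quotMod (D : X.IdealSheafData) : Coh.IsCoh (ClSub.quotMod D) := by
  haveI := isLocallyNoetherian k (X := X)
  exact ProperFin.isCoh_push_of_isFinite D.subschemeι _ (ProperFin.isCoh_structureModule _)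

/-- The deviation of a closed subscheme is the degree of the restriction to it. -/
theorem dev_quotMod (D : X.IdealSheafData) {n : ℕ} {E : X.Modules} (hE : FlatMod.IsFinLocFreeOfRank n E) :
    dev k hE (CohDev.kcl (ClSub.quotMod D)) =
      @Curv2.deg k _ D.subscheme ⟨D.subschemeι ≫ (X ↘ Spec (CommRingCat.of k))⟩
        ((Scheme.Modules.pullback D.subschemeι).obj E) n := by
  letI : D.subscheme.Over (Spec (CommRingCat.of k)) := ⟨D.subschemeι ≫ (X ↘ Spec (CommRingCat.of k))⟩
  haveI : E.IsQuasicoherent := (VBLib.isCoh_of_ofRank hE).1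
  rw [dev_kcl k hE (isCoh_quotMod k D), Curv2.deg, euler_iso k (tensQuotIso D.subschemeι E),
    euler_push D.subschemeι rfl _ inferInstance,
    euler_push D.subschemeι rfl _ (ProjTwist.isQuasicoherent_structureModule D.subscheme)]

end Groth.Agent.EulerChar
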