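import Groth.Agent.EulerChar.Curve
import Groth.Agent.EulerChar.Push
import Groth.Agent.DimOneAmple.Ample
import Groth.Agent.Props.AmpleTensor
import Groth.Agent.Props.AmpleFrames
import Groth.Agent.AmpleLib.Tensor
import Groth.Agent.LimTop.TensorQC
import Groth.Agent.PicLaw.Basic
import Groth.Agent.CohTop.Vanishing
import Mathlib.AlgebraicGeometry.ZariskisMainTheorem

/-!
# Ampleness and degree on a proper integral curve

A positive degree module is semi-ample after a twist: multiplication by a section makes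
`h¹` of the powers decrease, and where it stops decreasing the sections surject onto the
restriction to the zeros of the section.
-/

universe u

open CategoryTheory CategoryTheory.Limits AlgebraicGeometry TopologicalSpace
open Groth.Agent.PullStalk.Sky Groth.Agent.PullStalk.Exact
open Groth.Agent.Props.GenLocus Groth.Agent.AmpleLib

set_option linter.style.haveILetI false

namespace Groth.Agent.EulerChar

variable {X : Scheme.{u}}

/-- Where the germs of global sections span, some section generates. -/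
theorem exists_genLocus_of_span {M : X.Modules} (hM : PicF.IsInvertible M) {x : X}
    (h : ∀ m : M.presheaf.stalk x, m ∈ Submodule.span (X.presheaf.stalk x)
      (Set.range fun σ : Γ(M, ⊤) ↦ germM M ⊤ x trivial σ)) :
    ∃ t : Coh.structureModule X ⟶ M, x ∈ CohB1.genLocus M t := by
  obtain ⟨τ, hτ⟩ := exists_locus_mem hM (O := ⊤) (x := x) trivial fun W hxW m => h _
  exact ⟨homOfSec τ, by rwa [genLocus_homOfSec]⟩

/-- A proper submodule of a free module of rank one lies in the maximal ideal times it. -/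
theorem le_smul_top_of_ne_top {R M : Type u} [CommRing R] [IsLocalRing R] [AddCommGroup M] [Module R M]
    (e : (Fin 1 → R) ≃ₗ[R] M) {N : Submodule R M} (hN : N ≠ ⊤) :
    N ≤ IsLocalRing.maximalIdeal R • (⊤ : Submodule R M) := by
  intro y hy
  obtain ⟨a, rfl⟩ := e.surjective y
  have ha : a = a 0 • (fun _ => 1) := funext fun i => by simp [Subsingleton.elim i 0]
  by_cases hu : IsUnit (a 0)
  · refine absurd (eq_top_iff.2 fun z _ => ?_) hN
    obtain ⟨b, rfl⟩ := e.surjective z
    obtain ⟨u, hu⟩ := hu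
    have hb : b = (b 0 * (↑u⁻¹ : R)) • a := funext fun i => by
      simp [Subsingleton.elim i 0, mul_assoc, ← hu]
    rw [hb, map_smul]
    exact N.smul_mem _ hy
  · rw [ha, map_smul]
    exact Submodule.smul_mem_smul ((IsLocalRing.mem_maximalIdeal _).2 hu) trivial

variable [IsIntegral X] (k : Type u) [Field k] [X.Over (Spec (CommRingCat.of k))]
  [IsProper (X ↘ Spec (CommRingCat.of k))] (hdim : topologicalKrullDim X = 1)

include k hdim in
omit [IsIntegral X] in
theorem subsingleton_HH_two_le (M : X.Modules) {p : ℕ} (hp : 1 < p) : Subsingleton (Coh.HH X M p) :=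
  haveI := isNoetherian k (X := X)
  haveI : NoetherianSpace X.toTopCat := inferInstanceAs (NoetherianSpace X)
  CohTop.Vanishing.grothendieck_vanishing (X := X.toTopCat) 1 hdim.le (Coh.toAb M) p hp

include hdim in
omit [IsIntegral X] in
theorem euler_le_h0 {M : X.Modules} (hM : Coh.IsCoh M) :
    Curv2.euler k X M ≤ (Module.finrank k (Coh.HH X M 0) : ℤ) := by
  rw [euler_eq_sum k (t := 2) fun p hp => subsingleton_HH_two_le k hdim M hp]
  simp [Finset.sum_range_succ]

omit [IsIntegral X] in
theorem deg_iso {n : ℕ} {M N : X.Modules} (e : M ≅ N) : Curv2.deg k X M n = Curv2.deg k X N n := by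
  rw [Curv2.deg, Curv2.deg, euler_iso k e]

include hdim in
theorem deg_tensorPow {L : X.Modules} (hL : PicF.IsInvertible L) : ∀ a : ℕ,
    Curv2.deg k X (CohB1.tensorPow L a) 1 = a * Curv2.deg k X L 1
  | 0 => by
    show Curv2.deg k X (Coh.structureModule X) 1 = _
    simp [Curv2.deg]
  | a + 1 => by
    have h : Curv2.deg k X (CohB1.tensorMod (CohB1.tensorPow L a) L) (1 * 1) =
        (1 : ℕ) * Curv2.deg k X L 1 + (1 : ℕ) * Curv2.deg k X (CohB1.tensorPow L a) 1 :=
      deg_tens k (ProjTwist.isFinLocFreeOfRank_one (isInvertible_tensorPow hL a)) hdim.le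
        (ProjTwist.isFinLocFreeOfRank_one hL)
    rw [deg_tensorPow hL a] at h
    refine Eq.trans h ?_
    push_cast
    ring

omit [IsIntegral X] in
/-- Equal `h¹` at the two ends makes sections surject onto a quotient without `H¹`. -/
theorem surjective_h0 {A B C : X.Modules} (f : A ⟶ B) (g : B ⟶ C) (w : f ≫ g = 0)
    (hw : (ShortComplex.mk f g w).ShortExact) (hA : Coh.IsCoh A) (hB : Coh.IsCoh B)
    [Subsingleton (Coh.HH X C 1)]
    (hle : Module.finrank k (Coh.HH X A 1) ≤ Module.finrank k (Coh.HH X B 1)) :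
    Function.Surjective (CohLin.hMap g 0) := by
  haveI := finite_HH k _ hA 1
  haveI := finite_HH k _ hB 1
  let φ : Coh.HH X A 1 →ₗ[k] Coh.HH X B 1 := CohLin.overLin k (CohLin.hMap f 1)
  have hφ : Function.Surjective φ := fun y => CohLin.exists_hMap_f_eq hw y (Subsingleton.elim _ _)
  have heq : Module.finrank k (Coh.HH X A 1) = Module.finrank k (Coh.HH X B 1) := by
    refine le_antisymm hle ?_
    calc Module.finrank k (Coh.HH X B 1)
        = Module.finrank k (LinearMap.range φ) := by rw [LinearMap.range_eq_top.2 hφ, finrank_top]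
      _ ≤ _ := LinearMap.finrank_range_le _
  have hinj : Function.Injective φ := (LinearMap.injective_iff_surjective_of_finrank_eq_finrank heq).2 hφ
  refine fun y => CohLin.exists_hMap_g_eq hw y (hinj ?_)
  rw [map_zero]
  exact CohLin.hMap_f_hδ hw y

omit [IsIntegral X] in
/-- Global sections span modulo a proper image, hence span. -/
theorem span_of_seq {A B C : X.Modules} (f : A ⟶ B) (g : B ⟶ C) (w : f ≫ g = 0)
    (hw : (ShortComplex.mk f g w).ShortExact)
    (hfl : TopCat.Sheaf.IsFlasque (X := X.toPresheafedSpace.carrier) (Coh.toAb C))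
    (hg : Function.Surjective (CohLin.hMap g 0)) {x : X}
    (eB : (Fin 1 → X.presheaf.stalk x) ≃ₗ[X.presheaf.stalk x] B.presheaf.stalk x)
    (hx : x ∈ CohB1.support C) (m : B.presheaf.stalk x) :
    m ∈ Submodule.span (X.presheaf.stalk x) (Set.range fun σ : Γ(B, ⊤) ↦ germM B ⊤ x trivial σ) := by
  let N := Submodule.span (X.presheaf.stalk x) (Set.range fun σ : Γ(B, ⊤) ↦ germM B ⊤ x trivial σ)
  have hlift : ∀ c : C.presheaf.stalk x, ∃ σ : Γ(B, ⊤), stalkLin g x (germM B ⊤ x trivial σ) = c := by
    intro c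
    obtain ⟨W, hxW, n, rfl⟩ := exists_germM_eq C x c
    obtain ⟨y, hy⟩ := (AddCommGrpCat.epi_iff_surjective _).1 (hfl.epi (homOfLE (le_top : W ≤ ⊤)).op) n
    obtain ⟨z, hz⟩ := hg ((ProperFin.h0Sec C).symm y)
    refine ⟨ProperFin.h0Sec B z, ?_⟩
    rw [stalkLin_germ]
    refine Eq.trans (congrArg (germM C ⊤ x trivial) ((ProperFin.h0Sec_hMap g z).symm.trans
      ((congrArg (ProperFin.h0Sec C) hz).trans (AddEquiv.apply_symm_apply _ y)))) ?_
    rw [← hy]
    exact (C.presheaf.germ_res_apply (homOfLE (le_top : W ≤ ⊤)) x hxW y).symm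
  obtain ⟨-, he, hgs⟩ := stalk_exact hw x
  have hne : LinearMap.range (stalkLin f x) ≠ ⊤ := fun htop => by
    refine hx (subsingleton_of_forall_eq 0 fun c => ?_)
    obtain ⟨n, rfl⟩ := hgs c
    exact (he n).2 (htop.ge trivial)
  have hsup : (⊤ : Submodule (X.presheaf.stalk x) (B.presheaf.stalk x)) ≤
      N ⊔ IsLocalRing.maximalIdeal (X.presheaf.stalk x) • ⊤ := fun n _ => by
    obtain ⟨σ, hσ⟩ := hlift (stalkLin g x n)
    have h1 : n - germM B ⊤ x trivial σ ∈ LinearMap.range (stalkLin f x) :=
      (he _).1 ((map_sub (stalkLin g x) _ _).trans (sub_eq_zero.2 hσ.symm))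
    rw [← add_sub_cancel (germM B ⊤ x trivial σ) n]
    exact Submodule.add_mem_sup (Submodule.subset_span ⟨σ, rfl⟩) (le_smul_top_of_ne_top eB hne h1)
  haveI : Module.Finite (X.presheaf.stalk x) (B.presheaf.stalk x) := Module.Finite.equiv eB
  exact Submodule.le_of_le_smul_of_le_jacobson_bot Module.Finite.fg_top
    (IsLocalRing.maximalIdeal_le_jacobson _) hsup trivial

include k in
omit [IsIntegral X] in
/-- Tensoring keeps short exact sequences, with the maps forgotten. -/
theorem exists_tens_seq {V : X.Modules} {r : ℕ} (hV : FlatMod.IsFinLocFreeOfRank r V)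
    {S : ShortComplex X.Modules} (hS : S.ShortExact) :
    ∃ (f : CohDev.tens V S.X₁ ⟶ CohDev.tens V S.X₂) (g : CohDev.tens V S.X₂ ⟶ CohDev.tens V S.X₃)
      (w : f ≫ g = 0), (ShortComplex.mk f g w).ShortExact :=
  haveI := isNoetherian k (X := X)
  ⟨_, _, _, CohDev.tens_shortExact hV hS⟩

include k hdim in
omit [IsIntegral X] in
/-- The step where `h¹` does not drop. -/
theorem exists_genLocus_step {Q C V : X.Modules} (hQ : PicF.IsInvertible Q) (hV : PicF.IsInvertible V)
    (s : Coh.structureModule X ⟶ Q) (p : Q ⟶ C) (w : s ≫ p = 0) (hS : (ShortComplex.mk s p w).ShortExact)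
    (hC : Coh.IsCoh C) (hCd : topologicalKrullDim ↥(CohB1.support C) ≤ 0) {x : X}
    (hxC : x ∈ CohB1.support C)
    (hle : Module.finrank k (Coh.HH X V 1) ≤ Module.finrank k (Coh.HH X (CohB1.tensorMod V Q) 1)) :
    ∃ t : Coh.structureModule X ⟶ CohB1.tensorMod V Q, x ∈ CohB1.genLocus _ t := by
  haveI := isNoetherian k (X := X)
  have hV1 := ProjTwist.isFinLocFreeOfRank_one hV
  have hVQ := isInvertible_tensorMod hV hQ
  have hOc := VBLib.isCoh_of_ofRank (ProjTwist.isFinLocFreeOfRank_one (PicLoc.isInvertible_structureModule X))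
  obtain ⟨f, g, w', hw⟩ := exists_tens_seq k hV1 hS
  have hC' := isCoh_tens k hV1 hC
  have hC'd : topologicalKrullDim ↥(CohB1.support (CohDev.tens V C)) ≤ 0 :=
    (TopDimLib.topDim_le_of_subset (CohDev.support_tens_subset V C)).trans hCd
  haveI : Subsingleton (Coh.HH X (CohDev.tens V C) 1) := subsingleton_HH_of_support k hC' hC'd 0
  have hle' : Module.finrank k (Coh.HH X (CohDev.tens V (Coh.structureModule X)) 1) ≤
      Module.finrank k (Coh.HH X (CohDev.tens V Q) 1) := by
    rw [(LinearEquiv.ofBijective (CohLin.overLin k (CohLin.hMap (tensOne' V).hom 1))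
      (CohLin.hIso (tensOne' V) 1).bijective).finrank_eq]
    exact hle
  have hsur := surjective_h0 k f g w' hw (isCoh_tens k hV1 hOc)
    (isCoh_tens k hV1 (VBLib.isCoh_of_ofRank (ProjTwist.isFinLocFreeOfRank_one hQ))) hle'
  obtain ⟨eB⟩ := stalk_ofRank (ProjTwist.isFinLocFreeOfRank_one hVQ) x
  have hx' : x ∈ CohB1.support (CohDev.tens V C) := by
    haveI := (VBLib.isCoh_of_ofRank hV1).2
    haveI := (VBLib.isCoh_of_ofRank hV1).1
    haveI := hC.1
    haveI := hC.2
    refine (LimTop.TensorQC.mem_support_tensM _ _ x).2 ⟨fun hsub => ?_, hxC⟩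
    obtain ⟨e⟩ := stalk_ofRank hV1 x
    haveI := e.toEquiv.subsingleton_congr.2 hsub
    exact one_ne_zero (congrFun (Subsingleton.elim (1 : Fin 1 → X.presheaf.stalk x) 0) 0)
  exact exists_genLocus_of_span hVQ (span_of_seq f g w' hw (isFlasque_of_support k hC' hC'd) hsur eB hx')

include k hdim in
/-- An invertible module with a nonzero section has, at every point, a power with a section generating there. -/
theorem exists_pow_genLocus {Q : X.Modules} (hQ : PicF.IsInvertible Q)
    (s : Coh.structureModule X ⟶ Q) (hs : s ≠ 0) (x : X) :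
    ∃ (n : ℕ) (t : Coh.structureModule X ⟶ CohB1.tensorPow Q (n + 1)), x ∈ CohB1.genLocus _ t := by
  haveI := isNoetherian k (X := X)
  have hO := PicLoc.isInvertible_structureModule X
  have hOc := VBLib.isCoh_of_ofRank (ProjTwist.isFinLocFreeOfRank_one hO)
  have hQc := VBLib.isCoh_of_ofRank (ProjTwist.isFinLocFreeOfRank_one hQ)
  by_cases hsurj : Function.Surjective (stalkLin s x)
  · -- `Q` itself is generated at `x`
    obtain ⟨t, ht⟩ := exists_genLocus_of_span hQ (x := x) fun m => by
      obtain ⟨c, rfl⟩ := hsurj m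
      obtain ⟨W, hxW, r, rfl⟩ := exists_germM_eq _ x c
      rw [stalkLin_germ]
      have e : s.app W r = (show Γ(X, W) from r) • sec s W := app_eq s W r
      rw [e, germM_smul]
      refine Submodule.smul_mem _ _ (Submodule.subset_span ⟨sec s ⊤, ?_⟩)
      rw [← sec_res s (le_top : W ≤ ⊤)]
      exact (Q.presheaf.germ_res_apply (homOfLE (le_top : W ≤ ⊤)) x hxW (sec s ⊤)).symm
    exact ⟨0, t ≫ (ProjTwist.oneTens Q).symm.hom,
      (genLocus_comp_iso t (ProjTwist.oneTens Q).symm).symm ▸ ht⟩
  haveI := mono_of_ne_zero hO hQ s hs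
  have hC : Coh.IsCoh (cokernel s) := CohDev.isCoh_cokernel s hOc.1 hQc
  have hCd : topologicalKrullDim ↥(CohB1.support (cokernel s)) ≤ 0 := dim_support_le_zero k hdim hC
    (CohDev.not_mem_support_cokernel s (bijective_stalk_generic hO hQ s hs).2)
  have hS : (ShortComplex.mk s (cokernel.π s) (cokernel.condition s)).ShortExact :=
    { exact := ShortComplex.exact_of_g_is_cokernel _ (cokernelIsCokernel s)
      mono_f := inferInstance
      epi_g := inferInstanceAs (Epi (cokernel.π s)) }
  have hxC : x ∈ CohB1.support (cokernel s) := fun hsub => hsurj fun m => by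
    obtain ⟨-, he, -⟩ := stalk_exact hS x
    exact (he m).1 (@Subsingleton.elim _ hsub _ _)
  let h : ℕ → ℕ := fun j => Module.finrank k (Coh.HH X (CohB1.tensorPow Q j) 1)
  let j := Function.argmin h
  obtain ⟨t, ht⟩ := exists_genLocus_step k hdim hQ (isInvertible_tensorPow hQ j) s (cokernel.π s)
    (cokernel.condition s) hS hC hCd hxC (Function.argmin_le h (j + 1))
  exact ⟨j, t, ht⟩

include k hdim in
omit [IsIntegral X] in
theorem not_isAffine : ¬ IsAffine X := fun haff => by
  haveI := haff
  haveI : IsAffineHom (X ↘ Spec (CommRingCat.of k)) := isAffineHom_of_isAffine _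
  haveI : IsFinite (X ↘ Spec (CommRingCat.of k)) :=
    (IsFinite.iff_isProper_and_isAffineHom).2 ⟨inferInstance, inferInstance⟩
  haveI : Finite X := Set.finite_univ_iff.1 (((X ↘ Spec (CommRingCat.of k)).finite_preimage_singleton
    (IsLocalRing.closedPoint k)).subset fun x _ => Subsingleton.elim _ _)
  have hd := (X ↘ Spec (CommRingCat.of k)).isDiscrete_preimage_singleton (IsLocalRing.closedPoint k)
  have huniv : (⇑(X ↘ Spec (CommRingCat.of k)).base ⁻¹' {IsLocalRing.closedPoint k}) = Set.univ :=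
    Set.eq_univ_of_forall fun x => Subsingleton.elim _ _
  replace hd : _root_.IsDiscrete (Set.univ : Set X) := huniv ▸ hd
  haveI : DiscreteTopology (Set.univ : Set X) := hd.to_subtype
  haveI hdisc : DiscreteTopology X :=
    Topology.IsEmbedding.discreteTopology (f := fun x : X => (⟨x, trivial⟩ : (Set.univ : Set X)))
      (Homeomorph.Set.univ X).symm.isEmbedding
  have h0 : topologicalKrullDim X ≤ 0 := topologicalKrullDim_zero_of_discreteTopology X
  rw [hdim] at h0
  norm_num at h0

include hdim in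
theorem deg_pos_of_isAmple {L : X.Modules} (hL : CohB1.IsAmple L) : 0 < Curv2.deg k X L 1 := by
  obtain ⟨n, s, hx, haff⟩ := hL.2.2 (genericPoint X)
  have hP := isInvertible_tensorPow hL.1 (n + 1)
  have hs : s ≠ 0 := fun h0 => by
    obtain ⟨W, hxW, hW⟩ := (mem_genLocus_iff s _).1 hx
    subst h0
    haveI : Nonempty W := ⟨⟨_, hxW⟩⟩
    exact one_ne_zero (hW.injective le_rfl (a := (1 : Γ(X, W))) (b := 0) (by
      simp [sec]))
  obtain ⟨hle, heq⟩ := euler_le_of_ne_zero (PicLoc.isInvertible_structureModule X) hP s hs k hdim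
  have h0 : 0 < Curv2.deg k X (CohB1.tensorPow L (n + 1)) 1 := by
    rw [Curv2.deg, Nat.cast_one, one_mul]
    rcases hle.lt_or_eq with h | h
    · linarith
    · exfalso
      haveI := heq h
      have htop : CohB1.genLocus _ s = ⊤ := top_le_iff.1
        (le_sSup (show ⊤ ∈ _ from inferInstanceAs (IsIso ((Scheme.Modules.restrictFunctor _).map s))))
      rw [htop] at haff
      haveI : IsAffine (⊤ : X.Opens) := haff
      exact not_isAffine k hdim (IsAffine.of_isIso X.topIso.inv)
  rw [deg_tensorPow k hdim hL.1] at h0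
  exact pos_of_mul_pos_right h0 (Int.natCast_nonneg _)

include k hdim in
theorem isAmple_of_deg_pos {L : X.Modules} (hL : PicF.IsInvertible L) (hd : 0 < Curv2.deg k X L 1) :
    CohB1.IsAmple L := by
  haveI := isNoetherian k (X := X)
  haveI : X.IsSeparated := ⟨by
    rw [show terminal.from X = (X ↘ Spec (CommRingCat.of k)) ≫ terminal.from _ from Subsingleton.elim _ _]
    infer_instance⟩
  obtain ⟨M, hM⟩ := DimOneAmple.exists_ample_of_dim_le_one X hdim.le
  obtain ⟨M', hM', ⟨e⟩⟩ := PicLaw.exists_inverse hM.1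
  let d := Curv2.deg k X L 1
  let c := Curv2.deg k X M' 1 + Curv2.euler k X (Coh.structureModule X)
  obtain ⟨a, ha, ha'⟩ : ∃ a : ℕ, 0 < a ∧ 0 < (a : ℤ) * d + c := by
    refine ⟨c.natAbs + 1, Nat.succ_pos _, ?_⟩
    have : ((c.natAbs + 1 : ℕ) : ℤ) * d ≥ (c.natAbs + 1 : ℕ) := le_mul_of_one_le_right (by positivity) hd
    omega
  have hP := isInvertible_tensorPow hL a
  let Q := CohB1.tensorMod M' (CohB1.tensorPow L a)
  have hQ : PicF.IsInvertible Q := isInvertible_tensorMod hM' hP
  have hQd : Curv2.deg k X Q (1 * 1) = (1 : ℕ) * Curv2.deg k X (CohB1.tensorPow L a) 1 + (1 : ℕ) * Curv2.deg k X M' 1 :=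
    deg_tens k (ProjTwist.isFinLocFreeOfRank_one hM') hdim.le (ProjTwist.isFinLocFreeOfRank_one hP)
  rw [deg_tensorPow k hdim hL, Nat.cast_one, one_mul, one_mul] at hQd
  rw [Curv2.deg, Nat.cast_one, one_mul] at hQd
  have hh := euler_le_h0 k hdim (VBLib.isCoh_of_ofRank (ProjTwist.isFinLocFreeOfRank_one hQ))
  have hpos : 0 < Module.finrank k (Coh.HH X Q 0) := by
    simp only [c, d] at ha'
    omega
  haveI := Module.nontrivial_of_finrank_pos hpos
  obtain ⟨σ, hσ⟩ := exists_ne (0 : Coh.HH X Q 0)
  let s := homOfSec (ProperFin.h0Sec Q σ)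
  have hs : s ≠ 0 := fun h0 => hσ ((ProperFin.h0Sec Q).injective (by
    rw [map_zero]
    have h1 := sec_homOfSec (ProperFin.h0Sec Q σ) ⊤
    rw [show homOfSec (ProperFin.h0Sec Q σ) = 0 from h0, QCoh.res_self] at h1
    exact h1.symm.trans rfl))
  have h1 : CohB1.IsAmple (CohB1.tensorMod M Q) :=
    Props.AmpleTensor.isAmple_of_frameMap2 hM hQ one_pos one_pos (Props.AmpleTensor.FrameMap2.tensor M Q)
      (exists_pow_genLocus k hdim hQ s hs)
  refine (Props.AmpleFrames.isAmple_tensorPow_iff hL ha).2 (AmpleLib.isAmple_of_iso ?_ h1)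
  exact (ProjTwist.tensAssoc M M' (CohB1.tensorPow L a)).symm ≪≫
    ProjTwist.tensCongr e (Iso.refl _) ≪≫ ProjTwist.oneTens _

end Groth.Agent.EulerChar
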