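import Groth.Agent.EulerChar.Deg
import Groth.Agent.VarDim.Curve
import Groth.Agent.CohDev.Gen

/-!
# Maps of invertible modules on an integral proper curve
-/

universe u

open CategoryTheory CategoryTheory.Limits AlgebraicGeometry TopologicalSpace
open Groth.Agent.PullStalk.Sky Groth.Agent.PullStalk.Exact

set_option linter.style.haveILetI false

namespace Groth.Agent.EulerChar

variable {X : Scheme.{u}}

/-- A finite set of closed points has dimension at most zero. -/
theorem topDim_le_zero_of_finite {T : Type u} [TopologicalSpace T] {Z : Set T} (hZ : Z.Finite)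
    (hc : ∀ z ∈ Z, IsClosed ({z} : Set T)) : topologicalKrullDim ↥Z ≤ 0 := by
  haveI : Finite ↥Z := hZ.to_subtype
  haveI : T1Space ↥Z := ⟨fun z => by
    convert (hc z.1 z.2).preimage continuous_subtype_val
    ext w
    exact Subtype.ext_iff⟩
  refine Order.krullDim_nonpos_iff_forall_isMax.2 fun A B hAB => ?_
  obtain ⟨a, ha⟩ := A.isIrreducible'.nonempty
  have hB : (B : Set ↥Z) = {a} :=
    (Set.subsingleton_iff_singleton (hAB ha)).1 (isPreirreducible_iff_subsingleton.1 B.isIrreducible'.2)
  intro b hb
  have : b = a := hB.le hb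
  rwa [this]

variable [IsIntegral X] {N L : X.Modules}

/-- A section of a finite locally free module with zero germ at the generic point is zero. -/
theorem eq_zero_of_germ_generic {n : ℕ} (hL : FlatMod.IsFinLocFreeOfRank n L) {U : X.Opens}
    (hξ : genericPoint X ∈ U) (m : Γ(L, U)) (h : germM L U (genericPoint X) hξ m = 0) : m = 0 := by
  choose V hxV φ using fun x : U => hL x.1
  refine TopCat.Sheaf.eq_of_locally_eq' (⟨L.presheaf, L.isSheaf⟩ : TopCat.Sheaf Ab X)
    (fun x : U => U ⊓ V x) U (fun x => homOfLE inf_le_left)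
    (fun x hx => Opens.mem_iSup.mpr ⟨⟨x, hx⟩, hx, hxV ⟨x, hx⟩⟩) _ _ fun x => ?_
  refine Eq.trans ?_ (map_zero (L.presheaf.map (homOfLE inf_le_left).op).hom).symm
  obtain ⟨e, he⟩ := VBLib.exists_isFrame_of_iso (φ x).some
  obtain ⟨a, ha⟩ := (he (U ⊓ V x) inf_le_right).2 (L.presheaf.map (homOfLE inf_le_left).op m)
  refine ha.symm.trans ?_
  have hξ' : genericPoint X ∈ U ⊓ V x := VBLib.genericPoint_mem_of_mem (x := x.1) ⟨x.2, hxV x⟩
  haveI : Nonempty ((U ⊓ V x : X.Opens) : Scheme.{u}) := ⟨⟨x.1, x.2, hxV x⟩⟩
  have h0 : LFFrame.stalkComb L e (genericPoint X) hξ'.2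
      (fun i => X.presheaf.germ (U ⊓ V x) (genericPoint X) hξ' (a i)) = 0 := by
    refine Eq.trans ?_ (Eq.trans (L.presheaf.germ_res_apply (homOfLE inf_le_left) _ hξ' m) h)
    refine Eq.trans ?_ (congrArg (L.presheaf.germ (U ⊓ V x) _ hξ') ha)
    exact (LFFrame.germ_comb L e inf_le_right a _ hξ').symm
  have ha0 : a = 0 := funext fun i => by
    refine (germ_injective_of_isIntegral X (genericPoint X) hξ') ?_
    refine Eq.trans ?_ (map_zero _).symm
    exact congrFun ((he.stalkComb_bijective (genericPoint X) hξ'.2).1 (h0.trans (map_zero _).symm)) i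
  simp [ha0, LFFrame.comb]

variable (hN : PicF.IsInvertible N) (hL : PicF.IsInvertible L) (φ : N ⟶ L) (hφ : φ ≠ 0)

include hN hL hφ in
/-- A nonzero map of invertible modules is bijective at the generic point. -/
theorem bijective_stalk_generic : Function.Bijective (stalkLin φ (genericPoint X)) := by
  letI : Field (X.presheaf.stalk (genericPoint X)) := inferInstanceAs (Field X.functionField)
  obtain ⟨eN⟩ := stalk_ofRank (ProjTwist.isFinLocFreeOfRank_one hN) (genericPoint X)
  obtain ⟨eL⟩ := stalk_ofRank (ProjTwist.isFinLocFreeOfRank_one hL) (genericPoint X)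
  haveI : Module.Finite (X.presheaf.stalk (genericPoint X)) (N.presheaf.stalk (genericPoint X)) :=
    Module.Finite.equiv eN
  haveI : Module.Finite (X.presheaf.stalk (genericPoint X)) (L.presheaf.stalk (genericPoint X)) :=
    Module.Finite.equiv eL
  have h1 : Module.finrank (X.presheaf.stalk (genericPoint X)) (N.presheaf.stalk (genericPoint X)) = 1 := by
    rw [← eN.finrank_eq, Module.finrank_fin_fun]
  have h2 : Module.finrank (X.presheaf.stalk (genericPoint X)) (L.presheaf.stalk (genericPoint X)) = 1 := by
    rw [← eL.finrank_eq, Module.finrank_fin_fun]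
  have hne : stalkLin φ (genericPoint X) ≠ 0 := fun h0 => hφ (by
    ext U m
    change φ.app U m = 0
    by_cases hU : genericPoint X ∈ U
    · refine eq_zero_of_germ_generic (ProjTwist.isFinLocFreeOfRank_one hL) hU _ ?_
      exact (stalkLin_germ φ U _ hU m).symm.trans (LinearMap.congr_fun h0 _)
    · exact TopCat.Sheaf.eq_of_locally_eq' (⟨L.presheaf, L.isSheaf⟩ : TopCat.Sheaf Ab X)
        (PEmpty.elim : PEmpty.{u + 1} → X.Opens) U (fun i => i.elim)
        (fun x hx => absurd (VBLib.genericPoint_mem_of_mem hx) hU) _ _ (fun i => i.elim))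
  have hinj : Function.Injective (stalkLin φ (genericPoint X)) := by
    rw [← LinearMap.ker_eq_bot]
    by_contra hk
    have h3 : 0 < Module.finrank _ (LinearMap.ker (stalkLin φ (genericPoint X))) :=
      Nat.pos_of_ne_zero fun h => hk (Submodule.finrank_eq_zero.1 h)
    have h4 := (stalkLin φ (genericPoint X)).finrank_range_add_finrank_ker
    have h5 : LinearMap.range (stalkLin φ (genericPoint X)) = ⊥ := Submodule.finrank_eq_zero.1 (by omega)
    exact hne (LinearMap.range_eq_bot.1 h5)
  exact ⟨hinj, (LinearMap.injective_iff_surjective_of_finrank_eq_finrank (h1.trans h2.symm)).1 hinj⟩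

include hN hL hφ in
/-- A nonzero map of invertible modules on an integral scheme is a monomorphism. -/
theorem mono_of_ne_zero : Mono φ := by
  refine Preadditive.mono_of_isZero_kernel φ (CohDev.isZero_of_support_eq_empty ?_)
  refine Set.eq_empty_iff_forall_notMem.2 fun y => CohDev.not_mem_support_kernel φ ?_
  rw [injective_iff_map_eq_zero]
  intro t ht
  obtain ⟨W, hyW, m, rfl⟩ := exists_germM_eq N y t
  rw [stalkLin_germ] at ht
  obtain ⟨W', hyW', i₁, i₂, he⟩ := L.presheaf.germ_eq y hyW hyW (φ.app W m) 0 (ht.trans (map_zero _).symm)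
  have hm : N.presheaf.map i₁.op m = 0 := by
    refine eq_zero_of_germ_generic (ProjTwist.isFinLocFreeOfRank_one hN)
      (VBLib.genericPoint_mem_of_mem hyW') _ ((bijective_stalk_generic hN hL φ hφ).1 ?_)
    rw [map_zero, stalkLin_germ]
    refine Eq.trans (congrArg (L.presheaf.germ W' _ _) ?_) (map_zero _)
    exact (ConcreteCategory.congr_hom (φ.mapPresheaf.naturality i₁.op) m).trans (he.trans (map_zero _))
  exact ((N.presheaf.germ_res_apply i₁ y hyW' m).symm.trans (congrArg (N.presheaf.germ W' y hyW') hm)).trans
    (map_zero _)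

variable (k : Type u) [Field k] [X.Over (Spec (CommRingCat.of k))] [IsProper (X ↘ Spec (CommRingCat.of k))]
  (hdim : topologicalKrullDim X = 1)

include k hdim in
/-- A coherent module vanishing at the generic point of a curve has zero-dimensional support. -/
theorem dim_support_le_zero {C : X.Modules} (hC : Coh.IsCoh C) (hξ : genericPoint X ∉ CohB1.support C) :
    topologicalKrullDim ↥(CohB1.support C) ≤ 0 := by
  haveI := compactSpace k (X := X)
  refine topDim_le_zero_of_finite
    (VarDim.finite_of_isClosed k hdim (CohDev.isClosed_support hC) hξ) fun z hz => ?_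
  exact VarDim.isClosed_singleton_of_ne_genericPoint k hdim fun h => hξ (h ▸ hz)

set_option maxHeartbeats 1000000 in
include hN hL hφ hdim in
/-- A nonzero map of invertible modules on a proper curve increases the Euler characteristic, strictly
unless it is an isomorphism. -/
theorem euler_le_of_ne_zero :
    Curv2.euler k X N ≤ Curv2.euler k X L ∧ (Curv2.euler k X N = Curv2.euler k X L → IsIso φ) := by
  haveI := isNoetherian k (X := X)
  haveI := mono_of_ne_zero hN hL φ hφ
  have hNc := VBLib.isCoh_of_ofRank (ProjTwist.isFinLocFreeOfRank_one hN)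
  have hLc := VBLib.isCoh_of_ofRank (ProjTwist.isFinLocFreeOfRank_one hL)
  have hC : Coh.IsCoh (cokernel φ) := CohDev.isCoh_cokernel φ hNc.1 hLc
  have hS : (ShortComplex.mk φ (cokernel.π φ) (cokernel.condition φ)).ShortExact :=
    { exact := ShortComplex.exact_of_g_is_cokernel _ (cokernelIsCokernel φ)
      mono_f := inferInstance
      epi_g := inferInstanceAs (Epi (cokernel.π φ)) }
  have hadd : Curv2.euler k X L = Curv2.euler k X N + Curv2.euler k X (cokernel φ) :=
    euler_add' k φ (cokernel.π φ) (cokernel.condition φ) hS hNc hLc hC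
  have hd := dim_support_le_zero k hdim hC
    (CohDev.not_mem_support_cokernel φ (bijective_stalk_generic hN hL φ hφ).2)
  have h0 := euler_nonneg_of_support k hC hd
  refine ⟨by linarith, fun h => ?_⟩
  have hz := isZero_of_euler_eq_zero k hC hd (by linarith)
  haveI : Epi φ := Preadditive.epi_of_isZero_cokernel φ hz
  exact isIso_of_mono_of_epi φ

include k hdim in
/-- On a curve, the deviation of a coherent module is its generic rank times that of the structure sheaf. -/
theorem dev_eq_rank_mul {n : ℕ} {E : X.Modules} (hE : FlatMod.IsFinLocFreeOfRank n E) {F : X.Modules}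
    (hF : Coh.IsCoh F) :
    dev k hE (CohDev.kcl F) =
      (Module.finrank (X.presheaf.stalk (genericPoint X)) (F.presheaf.stalk (genericPoint X)) : ℤ) *
        Curv2.deg k X E n := by
  haveI := isNoetherian k (X := X)
  letI : Field (X.presheaf.stalk (genericPoint X)) := inferInstanceAs (Field X.functionField)
  haveI := VBLib.finite_stalk hF (genericPoint X)
  have hO := ProjTwist.isFinLocFreeOfRank_one (PicLoc.isInvertible_structureModule X)
  obtain ⟨eO⟩ := stalk_ofRank hO (genericPoint X)
  let r := Module.finrank (X.presheaf.stalk (genericPoint X)) (F.presheaf.stalk (genericPoint X))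
  let θ : F.presheaf.stalk (genericPoint X) ≃ₗ[X.presheaf.stalk (genericPoint X)]
      (CohDev.pow (Coh.structureModule X) r).presheaf.stalk (genericPoint X) :=
    ((Module.finBasis _ _).equivFun.trans (LinearEquiv.piCongrRight fun _ =>
      (LinearEquiv.funUnique (Fin 1) (X.presheaf.stalk (genericPoint X)) (X.presheaf.stalk (genericPoint X))).symm.trans
        eO)).trans (CohDev.powStalkEquiv (Coh.structureModule X) r (genericPoint X)).symm
  obtain ⟨hP, hk⟩ := CohDev.isCoh_pow_and_kcl (VBLib.isCoh_of_ofRank hO) r
  obtain ⟨H, a, b, hH, _, ha, hb⟩ := CohDev.exists_roof_at hF hP (genericPoint X) θ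
  have hmem := CohDev.kcl_sub_mem_of_roof a b hH hF hP (T := Set.univ) (U := {genericPoint X})
    (Set.subset_univ _) (Set.subset_univ _) (fun y hy => by cases hy; exact ha) (fun y hy => by cases hy; exact hb)
  have hle : CohDev.clSpan (Set.univ \ {genericPoint X}) ≤ (dev k hE).ker := by
    rw [CohDev.clSpan, AddSubgroup.closure_le]
    rintro c ⟨G, hG, hsub, rfl⟩
    exact dev_eq_zero_of_support k hE hG (dim_support_le_zero k hdim hG fun h => (hsub h).2 rfl)
  have h0 := hle hmem
  rw [AddMonoidHom.mem_ker, map_sub, hk, map_nsmul, dev_structure k hE, sub_eq_zero, nsmul_eq_mul] at h0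
  exact h0

end Groth.Agent.EulerChar
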