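import Groth.Agent.EulerChar.Push
import Groth.Agent.CohAff.RcIso
import Groth.Agent.S0036

/-!
# The Euler characteristic and higher direct images

`χ(Y, G) = ∑ᵢ (-1)ⁱ χ(X, Rⁱf_* G)`, from a flasque resolution cut into short exact sequences.
-/

universe u

open CategoryTheory CategoryTheory.Limits AlgebraicGeometry TopologicalSpace
open Groth.Agent.CohAff

set_option linter.style.haveILetI false

noncomputable section

namespace Groth.Agent.EulerChar

/-- A uniform Cartan bound: the union of `m` affine opens has no cohomology in degrees `≥ m`. -/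
theorem van_iSup {X : Scheme.{u}} (R : FRes X) [(R.Z 0).IsQuasicoherent]
    (hd : ∀ V W : X.Opens, IsAffineOpen V → IsAffineOpen W → IsAffineOpen (V ⊓ W)) :
    ∀ (m : ℕ) (U : Fin m → X.Opens), (∀ i, IsAffineOpen (U i)) → ∀ n, m ≤ n + 1 →
      R.Van (n + 1) (⨆ i, U i) := by
  intro m
  induction m with
  | zero =>
    intro U _ n _ z
    exact ⟨0, QCoh.eq_of_locally_eq (R.Z (n + 1)) (U := fun i : Fin 0 => U i) (fun i => i.elim0)
      le_rfl _ _ fun i => i.elim0⟩
  | succ m ih =>
    intro U hU n hn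
    have e : (⨆ i, U i) = U 0 ⊔ ⨆ i : Fin m, U i.succ :=
      le_antisymm (iSup_le fun i => Fin.cases le_sup_left
          (fun j => le_sup_of_le_right (le_iSup (fun i : Fin m => U i.succ) j)) i)
        (sup_le (le_iSup U 0) (iSup_le fun j => le_iSup U j.succ))
    rw [e]
    rcases n with _ | n
    · obtain rfl : m = 0 := by omega
      rw [iSup_of_empty, sup_bot_eq]
      exact FRes.van_succ_of_isAffineOpen (hU 0) 0
    · refine FRes.Van.sup (FRes.van_succ_of_isAffineOpen (hU 0) _)
        (ih (fun i => U i.succ) (fun i => hU _) (n + 1) (by omega)) ?_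
      rw [inf_iSup_eq]
      exact ih (fun i => U 0 ⊓ U i.succ) (fun i => hd _ _ (hU 0) (hU _)) n (by omega)

variable {k : Type u} [Field k] {X Y : Scheme.{u}} [X.Over (Spec (CommRingCat.of k))]
  [Y.Over (Spec (CommRingCat.of k))] [IsProper (X ↘ Spec (CommRingCat.of k))]
  [IsProper (Y ↘ Spec (CommRingCat.of k))] (f : Y ⟶ X)
  (w : f ≫ (X ↘ Spec (CommRingCat.of k)) = Y ↘ Spec (CommRingCat.of k))

include k in
/-- The models of higher direct images vanish above a fixed degree. -/
theorem exists_bound_Rc (R : FRes Y) [(R.Z 0).IsQuasicoherent] :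
    ∃ T : ℕ, ∀ n, T ≤ n → IsZero (R.Rc f n) := by
  classical
  haveI := compactSpace k (X := Y)
  choose W hW hxW _ using fun x : Y => exists_isAffineOpen_mem_and_subset (U := (⊤ : Y.Opens)) (Opens.mem_top x)
  obtain ⟨s, hs⟩ := CompactSpace.elim_nhds_subcover (fun x : Y => (W x : Set Y))
    (fun x => (W x).2.mem_nhds (hxW x))
  haveI : IsSeparated (terminal.from X) := by
    rw [show terminal.from X = (X ↘ Spec (CommRingCat.of k)) ≫ terminal.from _ from Subsingleton.elim _ _]
    infer_instance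
  refine ⟨s.card, fun n hn => R.isZero_Rc_of_van f fun V hV => ?_⟩
  have hA : ∀ j : Fin s.card, IsAffineOpen (W (s.equivFin.symm j).1 ⊓ f ⁻¹ᵁ V) := fun j => by
    haveI : IsAffine (W (s.equivFin.symm j).1 : Scheme.{u}) := hW _
    haveI : IsAffineHom (((W (s.equivFin.symm j).1).ι ≫ f) ≫ terminal.from X) :=
      isAffineHom_of_isAffine _
    haveI : IsAffineHom ((W (s.equivFin.symm j).1).ι ≫ f) := IsAffineHom.of_comp _ (terminal.from X)
    have h := (hV.preimage ((W (s.equivFin.symm j).1).ι ≫ f)).image_of_isOpenImmersion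
      (W (s.equivFin.symm j).1).ι
    rwa [Scheme.Hom.comp_preimage, Scheme.Hom.image_preimage_eq_opensRange_inf,
      Scheme.Opens.opensRange_ι] at h
  have e : f ⁻¹ᵁ V = ⨆ j : Fin s.card, W (s.equivFin.symm j).1 ⊓ f ⁻¹ᵁ V := by
    refine le_antisymm (fun x hx => ?_) (iSup_le fun _ => inf_le_right)
    obtain ⟨y, hy, hxy⟩ := Set.mem_iUnion₂.1 (hs.ge (Set.mem_univ x))
    exact Opens.mem_iSup.2 ⟨s.equivFin ⟨y, hy⟩, ⟨by simpa using hxy, hx⟩⟩
  rw [e]
  exact van_iSup R (fun V W => isAffineOpen_inf k) s.card _ hA n (by omega)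

variable (k) in
/-- Dimension of cohomology, as an integer. -/
abbrev hdim (Z : Scheme.{u}) [Z.Over (Spec (CommRingCat.of k))] (M : Z.Modules) (p : ℕ) : ℤ :=
  Module.finrank k (Coh.HH Z M p)

variable (R : FRes Y)

/-- Pushed cocycles. -/
abbrev pushZ (n : ℕ) : X.Modules := (Scheme.Modules.pushforward f).obj (R.Z n)

omit [Y.Over (Spec (CommRingCat.of k))] [IsProper (X ↘ Spec (CommRingCat.of k))]
  [IsProper (Y ↘ Spec (CommRingCat.of k))] [X.Over (Spec (CommRingCat.of k))] in
theorem isFlasque_pushJ (n : ℕ) :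
    TopCat.Sheaf.IsFlasque (X := X.toTopCat) (Coh.toAb ((Scheme.Modules.pushforward f).obj (R.J n))) :=
  ModShf.isFlasque_of_surjective (X := X.toTopCat) _ fun {V U} g ↦
    (AddCommGrpCat.epi_iff_surjective _).1 ((R.flasque n).epi ((Opens.map f.base).map g).op)

omit [IsProper (X ↘ Spec (CommRingCat.of k))] [IsProper (Y ↘ Spec (CommRingCat.of k))]
  [Y.Over (Spec (CommRingCat.of k))] in
/-- `H^(p+1)(I) = H^(p+2)(P)`. -/
theorem nonempty_shift (n p : ℕ) :
    Nonempty (Coh.HH X (ProperFin.Img f R n) (p + 1) ≃ₗ[k] Coh.HH X (pushZ f R n) (p + 2)) := by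
  have hS := ProperFin.seq₁_shortExact f R n
  haveI := ProperFin.subsingleton_of_flasque (isFlasque_pushJ f R n) p
  haveI := ProperFin.subsingleton_of_flasque (isFlasque_pushJ f R n) (p + 1)
  refine ⟨LinearEquiv.ofBijective (CohLin.overLin k (CohLin.hδ hS (p + 1))) ⟨?_, fun y => ?_⟩⟩
  · refine (injective_iff_map_eq_zero _).2 fun x hx => ?_
    obtain ⟨a, rfl⟩ := CohLin.exists_hMap_g_eq hS x hx
    rw [Subsingleton.elim a 0]
    exact map_zero _
  · obtain ⟨x, hx⟩ := CohLin.exists_hδ_eq hS y (Subsingleton.elim _ _)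
    exact ⟨x, hx⟩

variable (hP : Coh.IsCoh (pushZ f R 0)) (hR : ∀ n, Coh.IsCoh (R.Rc f n))

include hP hR in
omit [Y.Over (Spec (CommRingCat.of k))] [IsProper (Y ↘ Spec (CommRingCat.of k))] in
theorem finite_P : ∀ n p, Module.Finite k (Coh.HH X (pushZ f R n) (p + 1)) := by
  intro n
  induction n with
  | zero => exact fun p => finite_HH k _ hP _
  | succ n ih =>
    intro p
    haveI : Module.Finite k (Coh.HH X (ProperFin.seq₂ f R n).X₁ (p + 1)) :=
      haveI := ih (p + 1)
      Module.Finite.equiv (nonempty_shift (k := k) f R n p).some.symm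
    haveI : Module.Finite k (Coh.HH X (ProperFin.seq₂ f R n).X₃ (p + 1)) := finite_HH k _ (hR n) _
    exact CohLin.finite_X₂ (ProperFin.seq₂_shortExact f R n) k

include k hP hR in
omit [Y.Over (Spec (CommRingCat.of k))] [IsProper (Y ↘ Spec (CommRingCat.of k))]
  [IsProper (X ↘ Spec (CommRingCat.of k))] in
/-- Vanishing of the cohomology of pushed cocycles, sharper where higher direct images vanish. -/
theorem subsingleton_P {t T : ℕ} (ht : ∀ M : X.Modules, M.IsQuasicoherent → ∀ n, t ≤ n → Subsingleton (Coh.HH X M n))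
    (hT : ∀ n, T ≤ n → IsZero (R.Rc f n)) :
    ∀ n p, t ≤ p + 1 + (n - T) → Subsingleton (Coh.HH X (pushZ f R n) (p + 1)) := by
  intro n
  induction n with
  | zero => exact fun p hp => ht _ hP.1 _ (by omega)
  | succ n ih =>
    intro p hp
    haveI : Subsingleton (Coh.HH X (ProperFin.seq₂ f R n).X₁ (p + 1)) :=
      haveI := ih (p + 1) (by omega)
      (nonempty_shift (k := k) f R n p).some.toEquiv.subsingleton
    haveI : Subsingleton (Coh.HH X (ProperFin.seq₂ f R n).X₃ (p + 1)) := by
      by_cases h : t ≤ p + 1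
      · exact ht _ (hR n).1 _ h
      · refine subsingleton_of_forall_eq 0 fun x => ?_
        rw [← CohLin.hMap_id (R.Rc f n) (p + 1) x, (hT n (by omega)).eq_zero_of_src (𝟙 _)]
        exact (CohLin.hMapHom _ _ (p + 1) x).map_zero
    exact CohLin.subsingleton_X₂ (ProperFin.seq₂_shortExact f R n)

variable (k) in
/-- The defect `∑_{p ≥ 1} (-1)^p h^p` of the pushed cocycles. -/
def defect (t n : ℕ) : ℤ := ∑ p ∈ Finset.range t, (-1 : ℤ) ^ (p + 1) * hdim k X (pushZ f R n) (p + 1)

include w hP hR in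
/-- The degree `n + 1` cohomology of the source. -/
theorem finrank_succ {t T : ℕ} (ht : ∀ M : X.Modules, M.IsQuasicoherent → ∀ n, t ≤ n → Subsingleton (Coh.HH X M n))
    (hT : ∀ n, T ≤ n → IsZero (R.Rc f n)) (hY : ∀ n, Module.Finite k (Coh.HH Y (R.Z 0) n)) (n : ℕ) :
    hdim k Y (R.Z 0) (n + 1) =
      Curv2.euler k X (R.Rc f n) - defect k f R t n - defect k f R t (n + 1) := by
  have hS := ProperFin.seq₁_shortExact f R n
  have hS' := ProperFin.seq₂_shortExact f R n
  let S := ProperFin.seq₂ f R n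
  let ι₀ := CohLin.overLin k (CohLin.hMap S.f 0)
  let π₀ := CohLin.overLin k (CohLin.hMap S.g 0)
  let s := ProperFin.sect f R w (n + 1)
  let η := s.comp ι₀
  let δ := CohLin.overLin k (CohLin.hδ hS 0)
  haveI := hY (n + 1)
  -- the kernels of `η` and `δ` agree
  have hker : LinearMap.ker η = LinearMap.ker δ := by
    ext x
    rw [LinearMap.mem_ker, LinearMap.mem_ker]
    constructor
    · intro hx
      obtain ⟨a, ha⟩ := ProperFin.exists_eq_hMap_of_sect_eq_zero f R w n _ hx
      have e : CohLin.hMap (Abelian.factorThruImage (R.pP f n)) 0 a = x := by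
        refine ProperFin.hMap_zero_injective (Abelian.image.ι (R.pP f n)) ?_
        rw [← CohLin.hMap_comp, Abelian.image.fac]
        exact ha
      rw [← e]
      exact CohLin.hδ_hMap_g hS a
    · intro hx
      obtain ⟨a, rfl⟩ := CohLin.exists_hMap_g_eq hS x hx
      refine (R.clsTop_eq_zero_iff (n + 1) _).2 ⟨ProperFin.h0Sec ((Scheme.Modules.pushforward f).obj (R.J n)) a, ?_⟩
      refine (ProperFin.h0Sec_hMap (R.pP f n) a).symm.trans ?_
      refine congrArg (ProperFin.h0Sec _) ?_
      have hc := CohLin.hMap_comp (Abelian.factorThruImage (R.pP f n)) (Abelian.image.ι (R.pP f n)) 0 a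
      rw [Abelian.image.fac] at hc
      exact hc
  haveI := ProperFin.subsingleton_of_flasque (isFlasque_pushJ f R n) 0
  have hδ : Function.Surjective δ := fun y => CohLin.exists_hδ_eq hS y (Subsingleton.elim _ _)
  -- the map `H^(n+1)(G) → H^0(R^(n+1))`
  have hsπ : LinearMap.ker s ≤ LinearMap.ker π₀ := fun x hx => by
    obtain ⟨a, rfl⟩ := ProperFin.exists_eq_hMap_of_sect_eq_zero f R w n x hx
    rw [LinearMap.mem_ker]
    refine Eq.trans ?_ (CohLin.hMap_g_hMap_f (S := S) (n := 0)
      (CohLin.hMap (Abelian.factorThruImage (R.pP f n)) 0 a))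
    refine congrArg π₀ ?_
    have hc := CohLin.hMap_comp (Abelian.factorThruImage (R.pP f n)) (Abelian.image.ι (R.pP f n)) 0 a
    rw [Abelian.image.fac] at hc
    exact hc
  let φ : Coh.HH Y (R.Z 0) (n + 1) →ₗ[k] Coh.HH X S.X₃ 0 :=
    ((LinearMap.ker s).liftQ π₀ hsπ).comp (s.quotKerEquivOfSurjective (sect_surjective f w R (n + 1))).symm.toLinearMap
  have hφ : ∀ x, φ (s x) = π₀ x := fun x => by
    show (LinearMap.ker s).liftQ π₀ hsπ ((s.quotKerEquivOfSurjective _).symm (s x)) = _
    rw [show (s.quotKerEquivOfSurjective (sect_surjective f w R (n + 1))).symm (s x) =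
      Submodule.Quotient.mk x from (LinearEquiv.symm_apply_eq _).2 rfl]
    rfl
  have hkerφ : LinearMap.ker φ = LinearMap.range η := by
    ext a
    obtain ⟨x, rfl⟩ := sect_surjective f w R (n + 1) a
    rw [LinearMap.mem_ker, hφ]
    constructor
    · intro hx
      obtain ⟨y, hy⟩ := CohLin.exists_hMap_f_eq hS' x hx
      exact ⟨y, congrArg s hy⟩
    · rintro ⟨y, hy⟩
      have h0 : π₀ (ι₀ y) = 0 := CohLin.hMap_g_hMap_f (S := S) y
      rw [← hφ, ← show η y = s x from hy]
      exact (hφ _).trans h0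
  have hrangeφ : LinearMap.range φ = LinearMap.ker (CohLin.overLin k (CohLin.hδ hS' 0)) := by
    ext c
    rw [LinearMap.mem_ker]
    constructor
    · rintro ⟨a, rfl⟩
      obtain ⟨x, rfl⟩ := sect_surjective f w R (n + 1) a
      rw [hφ]
      exact CohLin.hδ_hMap_g hS' x
    · intro hc
      obtain ⟨x, hx⟩ := CohLin.exists_hMap_g_eq hS' c hc
      exact ⟨s x, (hφ x).trans hx⟩
  haveI := finite_P (k := k) f R hP hR n 0
  haveI := finite_HH k _ (hR n) 0
  have e1 : (Module.finrank k (LinearMap.range η) : ℤ) = hdim k X (pushZ f R n) 1 := by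
    rw [← η.quotKerEquivRange.finrank_eq, (Submodule.quotEquivOfEq _ _ hker).finrank_eq,
      (δ.quotKerEquivOfSurjective hδ).finrank_eq]
  have e2 := φ.finrank_range_add_finrank_ker
  rw [hrangeφ, hkerφ] at e2
  have e2' : (Module.finrank k (LinearMap.ker (CohLin.overLin k (CohLin.hδ hS' 0))) : ℤ) +
      hdim k X (pushZ f R n) 1 = hdim k Y (R.Z 0) (n + 1) := by
    rw [← e1]
    exact_mod_cast e2
  have e3 := (CohLin.overLin k (CohLin.hδ hS' 0)).finrank_range_add_finrank_ker
  have e3' : (Module.finrank k (LinearMap.range (CohLin.overLin k (CohLin.hδ hS' 0))) : ℤ) +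
      Module.finrank k (LinearMap.ker (CohLin.overLin k (CohLin.hδ hS' 0))) = hdim k X S.X₃ 0 := by
    exact_mod_cast e3
  -- the long exact sequence from degree one on
  let r : ℕ → ℤ := fun p => Module.finrank k (LinearMap.range (CohLin.overLin k (CohLin.hδ hS' p)))
  have key : ∀ p, hdim k X (pushZ f R n) (p + 2) + hdim k X S.X₃ (p + 1) - hdim k X (pushZ f R (n + 1)) (p + 1) =
      r p + r (p + 1) := by
    intro p
    haveI := finite_P (k := k) f R hP hR n (p + 1)
    haveI : Module.Finite k (Coh.HH X S.X₁ (p + 1)) :=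
      Module.Finite.equiv (nonempty_shift (k := k) f R n p).some.symm
    haveI : Module.Finite k (Coh.HH X S.X₂ (p + 1)) := finite_P f R hP hR (n + 1) p
    haveI : Module.Finite k (Coh.HH X S.X₃ (p + 1)) := finite_HH k _ (hR n) _
    have x1 := CurveCoh.finrank_exact₃ k (CohLin.overLin k (CohLin.hδ hS' p))
      (CohLin.overLin k (CohLin.hMap S.f (p + 1))) (fun x => ⟨fun hx => CohLin.exists_hδ_eq hS' x hx,
        fun ⟨y, hy⟩ => hy ▸ CohLin.hMap_f_hδ hS' y⟩)
    have x2 := CurveCoh.finrank_exact₃ k (CohLin.overLin k (CohLin.hMap S.f (p + 1)))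
      (CohLin.overLin k (CohLin.hMap S.g (p + 1))) (fun x => ⟨fun hx => CohLin.exists_hMap_f_eq hS' x hx,
        fun ⟨y, hy⟩ => hy ▸ CohLin.hMap_g_hMap_f (S := S) y⟩)
    have x3 := CurveCoh.finrank_exact₃ k (CohLin.overLin k (CohLin.hMap S.g (p + 1)))
      (CohLin.overLin k (CohLin.hδ hS' (p + 1))) (fun x => ⟨fun hx => CohLin.exists_hMap_g_eq hS' x hx,
        fun ⟨y, hy⟩ => hy ▸ CohLin.hδ_hMap_g hS' y⟩)
    have x0 : (Module.finrank k (Coh.HH X S.X₁ (p + 1)) : ℤ) = hdim k X (pushZ f R n) (p + 2) := by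
      rw [(nonempty_shift (k := k) f R n p).some.finrank_eq]
    simp only [hdim, r] at x0 ⊢
    linarith
  have tele : ∀ m, ∑ p ∈ Finset.range m, (-1 : ℤ) ^ p *
      (hdim k X (pushZ f R n) (p + 2) + hdim k X S.X₃ (p + 1) - hdim k X (pushZ f R (n + 1)) (p + 1)) =
      r 0 - (-1 : ℤ) ^ m * r m := by
    intro m
    induction m with
    | zero => simp
    | succ m ih => rw [Finset.sum_range_succ, ih, key m, pow_succ]; ring
  have hrt : r t = 0 := by
    haveI := ht S.X₃ (hR n).1 t le_rfl
    haveI : Subsingleton (LinearMap.range (CohLin.overLin k (CohLin.hδ hS' t))) :=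
      ⟨fun a b => by
        obtain ⟨a', ha'⟩ := a.2
        obtain ⟨b', hb'⟩ := b.2
        exact Subtype.ext (by rw [← ha', ← hb', Subsingleton.elim a' b'])⟩
    show ((Module.finrank k (LinearMap.range (CohLin.overLin k (CohLin.hδ hS' t))) : ℕ) : ℤ) = 0
    rw [Module.finrank_zero_of_subsingleton, Nat.cast_zero]
  have hz : hdim k X (pushZ f R n) (t + 1) = 0 := by
    haveI := subsingleton_P (k := k) f R hP hR ht hT n t (by omega)
    simp [hdim, Module.finrank_zero_of_subsingleton]
  have hχ : Curv2.euler k X (R.Rc f n) = hdim k X S.X₃ 0 +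
      ∑ p ∈ Finset.range t, (-1 : ℤ) ^ (p + 1) * hdim k X S.X₃ (p + 1) := by
    rw [euler_eq_sum k (t := t + 1) (fun p hp => ht _ (hR n).1 p (by omega)), Finset.sum_range_succ']
    simp [hdim, S, ProperFin.seq₂, add_comm]
  have hsum : ∑ p ∈ Finset.range t, (-1 : ℤ) ^ (p + 1) * hdim k X (pushZ f R n) (p + 1) +
      hdim k X (pushZ f R n) 1 = ∑ p ∈ Finset.range t, (-1 : ℤ) ^ p * hdim k X (pushZ f R n) (p + 2) := by
    have h1 := Finset.sum_range_succ' (fun p => (-1 : ℤ) ^ (p + 1) * hdim k X (pushZ f R n) (p + 1)) t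
    have h2 := Finset.sum_range_succ (fun p => (-1 : ℤ) ^ (p + 1) * hdim k X (pushZ f R n) (p + 1)) t
    simp only [hz, mul_zero, add_zero] at h2
    rw [h2] at h1
    rw [h1]
    simp [pow_succ]
  have T1 := tele t
  rw [hrt, mul_zero, sub_zero] at T1
  simp only [mul_sub, mul_add, Finset.sum_add_distrib, Finset.sum_sub_distrib] at T1
  simp only [defect, hχ, pow_succ, mul_neg, neg_mul, mul_one, Finset.sum_neg_distrib] at hsum ⊢
  linarith

include w in
/-- The Euler characteristic and higher direct images. -/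
theorem euler_leray [HasInjectiveResolutions Y.Modules] (G : Y.Modules) (hG : Coh.IsCoh G) :
    Curv2.euler k Y G = ∑ᶠ i : ℕ, (-1 : ℤ) ^ i * Curv2.euler k X ((Coh.Rpush f i).obj G) := by
  haveI := isLocallyNoetherian k (X := X)
  haveI : IsProper (f ≫ (X ↘ Spec (CommRingCat.of k))) := by rw [w]; infer_instance
  haveI : IsProper f := IsProper.of_comp f (X ↘ Spec (CommRingCat.of k))
  let R := FRes.ofMod G
  haveI : (R.Z 0).IsQuasicoherent := hG.1
  let e0 : (Coh.Rpush f 0).obj G ≅ (Scheme.Modules.pushforward f).obj G :=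
    (Scheme.Modules.pushforward f).rightDerivedZeroIsoSelf.app G
  let e : ∀ n, (Coh.Rpush f (n + 1)).obj G ≅ R.Rc f n := fun n => R.rpushIsoRc f n
  have hP : Coh.IsCoh ((Scheme.Modules.pushforward f).obj (R.Z 0)) :=
    CohDev.isCoh_of_iso e0 (Groth.Agent.S0036.result f G hG 0)
  have hR : ∀ n, Coh.IsCoh (R.Rc f n) := fun n =>
    CohDev.isCoh_of_iso (e n) (Groth.Agent.S0036.result f G hG (n + 1))
  obtain ⟨t, ht⟩ := exists_bound k X
  obtain ⟨tY, htY⟩ := exists_bound k Y
  obtain ⟨T, hT⟩ := exists_bound_Rc (k := k) f R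
  let N := max (T + t) tY
  have hdef : defect k f R t N = 0 := Finset.sum_eq_zero fun p _ => by
    haveI := subsingleton_P (k := k) f R hP hR ht hT N p (by omega)
    simp [hdim, Module.finrank_zero_of_subsingleton]
  have h0 : Curv2.euler k X ((Scheme.Modules.pushforward f).obj (R.Z 0)) =
      hdim k Y G 0 + defect k f R t 0 := by
    let s := ProperFin.sect f R w 0
    have hs : Function.Injective s := fun x y h => by
      have h0 : s (x - y) = 0 := by rw [map_sub, h, sub_self]
      exact sub_eq_zero.1 ((ProperFin.h0Sec _).injective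
        (((R.clsTop_eq_zero_iff 0 _).1 h0).trans (map_zero _).symm))
    have he := (LinearEquiv.ofBijective s ⟨hs, sect_surjective f w R 0⟩).finrank_eq
    rw [euler_eq_sum k (t := t + 1) (fun p hp => ht _ hP.1 p (by omega)), Finset.sum_range_succ', defect]
    simp only [hdim, pow_zero, one_mul, he]
    exact add_comm _ _
  have hsum : ∀ m, ∑ i ∈ Finset.range (m + 1), (-1 : ℤ) ^ i * Curv2.euler k X ((Coh.Rpush f i).obj G) =
      (∑ i ∈ Finset.range (m + 1), (-1 : ℤ) ^ i * hdim k Y G i) + (-1 : ℤ) ^ m * defect k f R t m := by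
    intro m
    induction m with
    | zero =>
      simp only [zero_add, Finset.sum_range_one, pow_zero, one_mul]
      exact (euler_iso k e0).trans h0
    | succ m ih =>
      have hf := finrank_succ f w R hP hR ht hT (fun n => finite_HH k G hG n) m
      rw [Finset.sum_range_succ, ih, Finset.sum_range_succ (n := m + 1), euler_iso k (e m)]
      have hf' : hdim k Y G (m + 1) =
        Curv2.euler k X (R.Rc f m) - defect k f R t m - defect k f R t (m + 1) := hf
      rw [hf', pow_succ]
      ring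
  rw [euler_eq_sum k (t := N + 1) (fun p hp => htY G hG.1 p (by omega)),
    finsum_eq_sum_of_support_subset (s := Finset.range (N + 1)) _ (fun i hi => by
      by_contra hn
      simp only [Finset.coe_range, Set.mem_Iio, not_lt] at hn
      obtain ⟨j, rfl⟩ := Nat.exists_eq_add_of_le' (show 1 ≤ i by omega)
      refine hi ?_
      show _ * _ = (0 : ℤ)
      rw [euler_iso k (e j), euler_of_isZero k (hT j (by omega)), mul_zero]),
    hsum N, hdef, mul_zero, add_zero]

end Groth.Agent.EulerChar
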