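import Groth.Agent.EulerChar.Restrict
import Groth.Agent.EulerChar.Curve
import Groth.Agent.IdealSh.Regular
import Groth.Agent.CohDev.Piece
import Mathlib.RingTheory.HopkinsLevitzki
import Mathlib.RingTheory.FiniteLength

/-!
# Degrees and irreducible components
-/

universe u

open CategoryTheory CategoryTheory.Limits AlgebraicGeometry TopologicalSpace
open Groth.Agent.PullStalk.Sky Groth.Agent.PullStalk.Exact

set_option linter.style.haveILetI false

namespace Groth.Agent.EulerChar

variable {X : Scheme.{u}}

/-- A non-maximal point of a scheme of dimension at most one is closed. -/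
theorem isClosed_singleton_of_specializes (hdim : topologicalKrullDim X ≤ 1) {z w : X} (hwz : w ⤳ z)
    (hne' : w ≠ z) : IsClosed ({z} : Set X) := by
  refine isClosed_of_closure_subset fun y hy => Set.mem_singleton_iff.2 (by_contra fun hne => ?_)
  let c : X → IrreducibleCloseds X := fun z =>
    ⟨closure {z}, isIrreducible_singleton.closure, isClosed_closure⟩
  have hlt : ∀ {a b : X}, b ⤳ a → a ≠ b → c a < c b := by
    intro a b hab hn
    refine lt_of_le_of_ne (show closure {a} ⊆ closure {b} from hab.closure_subset) fun h => hn ?_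
    exact (inseparable_iff_closure_eq.2 (congrArg (fun s : IrreducibleCloseds X => (s : Set X)) h)).eq
  let ser : LTSeries (IrreducibleCloseds X) :=
    LTSeries.mk 2 ![c y, c z, c w] (Fin.strictMono_iff_lt_succ.2 fun i => by
      fin_cases i
      · exact hlt (specializes_iff_mem_closure.2 hy) hne
      · exact hlt hwz hne'.symm)
  have h2 := (Order.LTSeries.length_le_krullDim ser).trans hdim
  change ((2 : ℕ) : WithBot ℕ∞) ≤ 1 at h2
  norm_num at h2

/-- The generic point of an irreducible component has no proper generization. -/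
theorem genericPoint_maximal {Z : Set X} (hZ : Z ∈ irreducibleComponents (X : Type u)) {ξ : X}
    (hξ : IsGenericPoint ξ Z) : ∀ y : X, y ⤳ ξ → y = ξ := fun y hy => by
  have h : Z ⊆ closure {y} := hξ.def ▸ hy.closure_subset
  have h' : closure ({y} : Set X) ⊆ Z := hZ.2 isIrreducible_singleton.closure h
  exact (IsGenericPoint.eq (isGenericPoint_closure (x := y)) (by rwa [subset_antisymm h' h]))

/-- Finitely generated modules over the local ring at a maximal point have finite length. -/
theorem length_ne_top_of_maximal [IsLocallyNoetherian X] {ξ : X} (hξ : ∀ y : X, y ⤳ ξ → y = ξ)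
    (M : Type u) [AddCommGroup M] [Module (X.presheaf.stalk ξ) M] [Module.Finite (X.presheaf.stalk ξ) M] :
    Module.length (X.presheaf.stalk ξ) M ≠ ⊤ := by
  haveI : Ring.KrullDimLE 0 (X.presheaf.stalk ξ) :=
    Ring.krullDimLE_zero_iff.2 fun q hq => by
      have : IsLocalRing.maximalIdeal (X.presheaf.stalk ξ) ≤ q := fun a ha =>
        hq.mem_of_pow_mem _ ((IdealSh.Regular.isNilpotent_of_maximal ξ hξ a ha).choose_spec ▸ q.zero_mem)
      rw [← ((IsLocalRing.maximalIdeal.isMaximal _).eq_of_le hq.ne_top this)]
      infer_instance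
  haveI : IsArtinianRing (X.presheaf.stalk ξ) := isArtinianRing_iff_isNoetherianRing_krullDimLE_zero.2 ⟨inferInstance, inferInstance⟩
  exact Module.length_ne_top

theorem finite_stalk' {M : X.Modules} (hM : Coh.IsCoh M) (x : X) :
    Module.Finite (X.presheaf.stalk x) (M.presheaf.stalk x) := by
  haveI := hM.1
  haveI := hM.2
  obtain ⟨_, ⟨U, hU, rfl⟩, hx, -⟩ :=
    X.isBasis_affineOpens.exists_subset_of_mem_open (Set.mem_univ x) isOpen_univ
  haveI := QCoh.finite_sections_of_isFiniteType M (show IsAffineOpen U from hU)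
  exact Props.QProj.finite_stalk M hU hx

variable [AlgebraicGeometry.IsNoetherian X]

/-- The length at a maximal point, on `K₀`. -/
noncomputable def lenK (ξ : X) (hξ : ∀ y : X, y ⤳ ξ → y = ξ) : SGA6.Kcoh X →+ ℤ :=
  liftK (fun M => ((Module.length (X.presheaf.stalk ξ) (M.presheaf.stalk ξ)).toNat : ℤ)) fun S hS h₁ _ h₃ => by
    haveI := finite_stalk' h₁ ξ
    haveI := finite_stalk' h₃ ξ
    obtain ⟨hi, he, hs⟩ := stalk_exact hS ξ
    show ((Module.length (X.presheaf.stalk ξ) (S.X₂.presheaf.stalk ξ)).toNat : ℤ) = _
    rw [Module.length_eq_add_of_exact _ _ hi hs he,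
      ENat.toNat_add (length_ne_top_of_maximal hξ _) (length_ne_top_of_maximal hξ _)]
    push_cast
    rfl

theorem lenK_kcl (ξ : X) (hξ : ∀ y : X, y ⤳ ξ → y = ξ) {M : X.Modules} (hM : Coh.IsCoh M) :
    lenK ξ hξ (CohDev.kcl M) = ((Module.length (X.presheaf.stalk ξ) (M.presheaf.stalk ξ)).toNat : ℤ) :=
  liftK_kcl _ _ hM

variable (k : Type u) [Field k] [X.Over (Spec (CommRingCat.of k))] [IsProper (X ↘ Spec (CommRingCat.of k))]

omit [AlgebraicGeometry.IsNoetherian X] in
theorem support_oz_subset (x : X) : CohB1.support (Cyc.closureStructureSheaf x) ⊆ closure {x} := by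
  refine (ProperFin.support_push_subset (IntMult.ptIdeal x).subschemeι _).trans ?_
  rintro _ ⟨z, -, rfl⟩
  have h : (IntMult.ptIdeal x).subschemeι z ∈ Set.range (IntMult.ptIdeal x).subschemeι := ⟨z, rfl⟩
  exact (RedSub.range_vanishingIdeal_subschemeι ⟨closure {x}, isClosed_closure⟩).le h

/-- The ideal of an irreducible component, made radical, is that of its generic point. -/
theorem radical_componentIdeal {Z : Set X} (hZ : Z ∈ irreducibleComponents (X : Type u)) {ξ : X}
    (hξ : IsGenericPoint ξ Z) :
    (X.irreducibleComponentIdeal Z hZ).radical = IntMult.ptIdeal ξ := by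
  rw [← Scheme.IdealSheafData.vanishingIdeal_support, IntMult.ptIdeal]
  congr 1
  refine SetLike.coe_injective ?_
  exact (show ((X.irreducibleComponentIdeal Z hZ).support : Set X) = Z from rfl).trans hξ.def.symm

set_option maxHeartbeats 1000000 in
include k in
/-- The deviation as a combination of lengths at generic points. -/
theorem deg_eq_sum (hdim : topologicalKrullDim X ≤ 1) {n : ℕ} {E : X.Modules}
    (hE : FlatMod.IsFinLocFreeOfRank n E) :
    Curv2.deg k X E n = ∑ᶠ Z : irreducibleComponents (X : Type u),
      (if topologicalKrullDim (Z.1 : Set X) = 1 then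
        ((Module.length (X.presheaf.stalk Z.2.1.genericPoint) (X.presheaf.stalk Z.2.1.genericPoint)).toNat : ℤ) *
          @Curv2.deg k _ (X.irreducibleComponentIdeal Z.1 Z.2).radical.subscheme ⟨(X.irreducibleComponentIdeal Z.1 Z.2).radical.subschemeι ≫ (X ↘ (Spec (CommRingCat.of k)))⟩ ((Scheme.Modules.pullback (X.irreducibleComponentIdeal Z.1 Z.2).radical.subschemeι).obj E) n
      else 0) := by
  classical
  haveI := (NoetherianSpace.finite_irreducibleComponents (α := X)).to_subtype
  cases nonempty_fintype (irreducibleComponents (X : Type u))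
  have hgen : ∀ Z : irreducibleComponents (X : Type u), IsGenericPoint Z.2.1.genericPoint Z.1 := fun Z => by
    have h := Z.2.1.isGenericPoint_genericPoint_closure
    rwa [(isClosed_of_mem_irreducibleComponents Z.1 Z.2).closure_eq] at h
  have hmax := fun Z : irreducibleComponents (X : Type u) => genericPoint_maximal Z.2 (hgen Z)
  let d : irreducibleComponents (X : Type u) → ℤ := fun Z =>
    dev k hE (CohDev.kcl (Cyc.closureStructureSheaf Z.2.1.genericPoint))
  -- every class is detected by lengths
  let Φ : SGA6.Kcoh X →+ ℤ := dev k hE - ∑ Z : irreducibleComponents (X : Type u),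
    if topologicalKrullDim (Z.1 : Set X) = 1 then (AddMonoidHom.mulRight (d Z)).comp (lenK _ (hmax Z)) else 0
  have hΦ : ∀ G : X.Modules, Coh.IsCoh G → Φ (CohDev.kcl G) = 0 := by
    intro G hG
    have hmem := CohDev.kcl_mem_closure_oz hG
    refine (show AddSubgroup.closure _ ≤ Φ.ker from (AddSubgroup.closure_le _).2 ?_) hmem
    rintro c ⟨x, -, rfl⟩
    have hx : Coh.IsCoh (Cyc.closureStructureSheaf x) := isCoh_quotMod k (IntMult.ptIdeal x)
    rw [SetLike.mem_coe, AddMonoidHom.mem_ker, AddMonoidHom.sub_apply, AddMonoidHom.finsetSum_apply, sub_eq_zero]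
    have hzero : ∀ Z : irreducibleComponents (X : Type u), Z.2.1.genericPoint ≠ x →
        lenK _ (hmax Z) (CohDev.kcl (Cyc.closureStructureSheaf x)) = 0 := fun Z hne => by
      haveI : Subsingleton ((Cyc.closureStructureSheaf x).presheaf.stalk Z.2.1.genericPoint) := by
        by_contra h
        exact hne ((hmax Z x (specializes_iff_mem_closure.2 (support_oz_subset x h))).symm)
      rw [lenK_kcl _ _ hx, Module.length_eq_zero, ENat.toNat_zero, Nat.cast_zero]
    by_cases hc : ∃ Z : irreducibleComponents (X : Type u), topologicalKrullDim (Z.1 : Set X) = 1 ∧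
        Z.2.1.genericPoint = x
    · obtain ⟨Z, hZ1, rfl⟩ := hc
      rw [Finset.sum_eq_single Z]
      · rw [if_pos hZ1, AddMonoidHom.comp_apply, lenK_kcl _ _ hx, CohDev.length_stalk_oz]
        simp [d]
      · intro Z' _ hne
        split_ifs
        · rw [AddMonoidHom.comp_apply, hzero Z' (fun h => hne (Subtype.ext (by
            rw [← (hgen Z').def, h, (hgen Z).def]))), map_zero]
        · rfl
      · simp
    · push Not at hc
      rw [Finset.sum_eq_zero fun Z _ => by
        split_ifs with h
        · rw [AddMonoidHom.comp_apply, hzero Z (hc Z h), map_zero]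
        · rfl]
      refine dev_eq_zero_of_support k hE hx ((TopDimLib.topDim_le_of_subset (support_oz_subset x)).trans ?_)
      obtain ⟨Z, hZ, hxZ⟩ : ∃ Z ∈ irreducibleComponents (X : Type u), x ∈ Z :=
        ⟨irreducibleComponent x, irreducibleComponent_mem_irreducibleComponents x, mem_irreducibleComponent⟩
      by_cases he : hZ.1.genericPoint = x
      · have hne1 : topologicalKrullDim Z ≠ 1 := fun h => hc ⟨Z, hZ⟩ h he
        have hle := (topologicalKrullDim_subspace_le X Z).trans hdim
        rw [← he, (hgen ⟨Z, hZ⟩).def]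
        revert hne1 hle
        cases topologicalKrullDim Z with
        | bot => intros; exact bot_le
        | coe a =>
          intro hne1 hle
          refine WithBot.coe_le_coe.2 (Order.lt_one_iff.1 (lt_of_le_of_ne (WithBot.coe_le_coe.1 hle) fun e => hne1 ?_)).le
          rw [e]
          rfl
      · have hcl := isClosed_singleton_of_specializes hdim ((hgen ⟨Z, hZ⟩).specializes hxZ) he
        rw [hcl.closure_eq]
        exact topDim_le_zero_of_finite (Set.finite_singleton x) fun z hz => by rwa [Set.mem_singleton_iff.1 hz]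
  have hO := hΦ _ (VBLib.isCoh_of_ofRank (ProjTwist.isFinLocFreeOfRank_one (PicLoc.isInvertible_structureModule X)))
  rw [AddMonoidHom.sub_apply, AddMonoidHom.finsetSum_apply, sub_eq_zero, dev_structure k hE] at hO
  rw [finsum_eq_sum_of_fintype, hO]
  refine Finset.sum_congr rfl fun Z _ => ?_
  split_ifs with h
  · obtain ⟨eO⟩ := stalk_ofRank (ProjTwist.isFinLocFreeOfRank_one (PicLoc.isInvertible_structureModule X))
      Z.2.1.genericPoint
    rw [AddMonoidHom.comp_apply, lenK_kcl _ _ (VBLib.isCoh_of_ofRank
      (ProjTwist.isFinLocFreeOfRank_one (PicLoc.isInvertible_structureModule X))), ← eO.length_eq,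
      (LinearEquiv.funUnique (Fin 1) (X.presheaf.stalk Z.2.1.genericPoint) (X.presheaf.stalk Z.2.1.genericPoint)).length_eq]
    simp only [AddMonoidHom.coe_mulRight, d]
    congr 1
    rw [radical_componentIdeal Z.2 (hgen Z)]
    exact dev_quotMod k (IntMult.ptIdeal Z.2.1.genericPoint) hE
  · rfl

end Groth.Agent.EulerChar
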