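import Groth.Agent.EulerChar.CurveVanish
import Groth.Agent.EulerChar.Cartier
import Groth.Agent.EulerChar.Restrict
import Groth.Agent.S1561
import Groth.Agent.CurveDVR.Stalk
import Groth.Agent.CohDev.Gen
import Groth.Agent.VBLib.RR
import Mathlib.AlgebraicGeometry.Properties

/-!
# Subtracting points from invertible modules on a curve over an algebraically closed field
-/

universe u

open CategoryTheory CategoryTheory.Limits AlgebraicGeometry TopologicalSpace
open Groth.Agent.PullStalk.Sky Groth.Agent.PullStalk.Exact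
open Groth.Agent.Props.GenLocus Groth.Agent.AmpleLib

set_option linter.style.haveILetI false

namespace Groth.Agent.EulerChar

variable {X : Scheme.{u}} (k : Type u) [Field k] [X.Over (Spec (CommRingCat.of k))]
  [IsProper (X ↘ Spec (CommRingCat.of k))] [IsIntegral X] (hdim : topologicalKrullDim X = 1)

include k hdim in
/-- Outside a closed set missing the generic point there is a closed point with principal maximal ideal. -/
theorem exists_good_point [PerfectField k] {Z : Set X} (hZ : IsClosed Z) (hξ : genericPoint X ∉ Z) :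
    ∃ x : X, x ∉ Z ∧ IsClosed ({x} : Set X) ∧
      (IsLocalRing.maximalIdeal (X.presheaf.stalk x)).IsPrincipal := by
  haveI := isLocallyNoetherian k (X := X)
  haveI : LocallyOfFinitePresentation (X ↘ Spec (CommRingCat.of k)) := inferInstance
  haveI : JacobsonSpace X := LocallyOfFiniteType.jacobsonSpace (X ↘ Spec (CommRingCat.of k))
  obtain ⟨hiff, hdense⟩ := Groth.Agent.S1561.result k X
  obtain ⟨y, hy, hyZ⟩ := hdense.inter_open_nonempty _ hZ.isOpen_compl ⟨_, hξ⟩
  obtain ⟨x, ⟨hx, hxZ⟩, hxc⟩ := nonempty_inter_closedPoints (X := X)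
    (Z := ((X ↘ Spec (CommRingCat.of k)).smoothLocus : Set X) ∩ Zᶜ) ⟨y, hyZ, hy⟩
    (((X ↘ Spec (CommRingCat.of k)).smoothLocus.isOpen.inter hZ.isOpen_compl).isLocallyClosed)
  haveI := (hiff x).1 hx
  haveI : IsDiscreteValuationRing (X.presheaf.stalk x) :=
    CurveDVR.isDiscreteValuationRing_of_regular _ (by
      rw [ringKrullDim_stalk_eq_coheight,
        CurveDVR.coheight_eq_one (X ↘ Spec (CommRingCat.of k)) hdim hxc]
      rfl)
  exact ⟨x, hxZ, hxc, inferInstance⟩

include k hdim in
/-- The ideal of a closed point with principal maximal ideal is effective Cartier. -/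
theorem isEffCartier_ptIdeal {x : X} (hxc : IsClosed ({x} : Set X))
    (hp : (IsLocalRing.maximalIdeal (X.presheaf.stalk x)).IsPrincipal) :
    BlowUp.IsEffCartierIdeal (IntMult.ptIdeal x) := by
  haveI := isLocallyNoetherian k (X := X)
  intro y
  by_cases hy : y = x
  · subst hy
    obtain ⟨U, hU, -⟩ := IdealSh.Comap.exists_affine_le y ⊤ trivial
    haveI : IsNoetherianRing Γ(X, U.1) := IsLocallyNoetherian.component_noetherian U
    letI := TopCat.Presheaf.algebra_section_stalk X.presheaf ⟨y, hU⟩
    haveI := U.2.isLocalization_stalk ⟨y, hU⟩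
    let p := (U.2.primeIdealOf ⟨y, hU⟩).asIdeal
    have hmax : IsLocalRing.maximalIdeal (X.presheaf.stalk y) = p.map (algebraMap Γ(X, U.1) (X.presheaf.stalk y)) :=
      (IsLocalization.AtPrime.map_eq_maximalIdeal p (X.presheaf.stalk y)).symm
    obtain ⟨c, hc⟩ := hp
    obtain ⟨⟨⟨f, hf⟩, s⟩, hfs⟩ := (IsLocalization.mem_map_algebraMap_iff p.primeCompl (X.presheaf.stalk y)).1
      (hmax.le (hc.ge (Submodule.mem_span_singleton_self c)))
    have hu := IsLocalization.map_units (X.presheaf.stalk y) s
    have key : ∀ a ∈ p, ∃ g ∉ p, ∃ b, g * a = b * f := by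
      intro a ha
      obtain ⟨d, hd⟩ := Submodule.mem_span_singleton.1
        (hc.le (hmax.ge (Ideal.mem_map_of_mem _ ha)))
      obtain ⟨⟨e, t⟩, he⟩ := IsLocalization.surj p.primeCompl d
      have h1 : algebraMap Γ(X, U.1) (X.presheaf.stalk y) ((s : Γ(X, U.1)) * (t : Γ(X, U.1)) * a) =
          algebraMap Γ(X, U.1) (X.presheaf.stalk y) (e * f) := by
        rw [smul_eq_mul] at hd
        rw [map_mul, map_mul, map_mul, ← hd, ← he, ← hfs]
        ring
      obtain ⟨w, hw⟩ := (IsLocalization.eq_iff_exists p.primeCompl _).1 h1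
      exact ⟨(w : Γ(X, U.1)) * ((s : Γ(X, U.1)) * (t : Γ(X, U.1))),
        p.primeCompl.mul_mem w.2 (p.primeCompl.mul_mem s.2 t.2), w * e, by linear_combination hw⟩
    obtain ⟨S, hS⟩ : Ideal.FG p := IsNoetherian.noetherian p
    choose! g hg b hb using key
    let G := ∏ a ∈ S, g a
    have hG : G ∉ p := fun h => by
      obtain ⟨a, ha, hga⟩ := (Ideal.IsPrime.prod_mem_iff (p := p)).1 h
      exact hg a (hS ▸ Ideal.subset_span ha) hga
    have hle : ∀ a ∈ p, G * a ∈ Ideal.span {f} := by
      intro a ha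
      rw [← hS] at ha
      induction ha using Submodule.span_induction with
      | mem a ha =>
        obtain ⟨q, hq⟩ := Finset.dvd_prod_of_mem g ha
        refine Ideal.mem_span_singleton'.2 ⟨q * b a, ?_⟩
        rw [show G = g a * q from hq]
        have := hb a (hS ▸ Ideal.subset_span ha)
        linear_combination -q * this
      | zero => simp
      | add a a' _ _ h h' => rw [mul_add]; exact add_mem h h'
      | smul r a _ h =>
        rw [smul_eq_mul, ← mul_assoc, mul_comm G r, mul_assoc]
        exact Ideal.mul_mem_left _ r h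
    have hyG : y ∈ X.basicOpen G := by
      rw [X.mem_basicOpen G y hU]
      exact IsLocalization.map_units (X.presheaf.stalk y) (⟨G, hG⟩ : p.primeCompl)
    let W := X.affineBasicOpen G
    let ρ := (X.presheaf.map (homOfLE (X.basicOpen_le G)).op).hom
    have hW : (IntMult.ptIdeal y).ideal W = Ideal.span {ρ f} := by
      rw [show (IntMult.ptIdeal y).ideal W = ((IntMult.ptIdeal y).ideal U).map ρ from
        ((IntMult.ptIdeal y).map_ideal_basicOpen U G).symm, CohDev.ideal_ptIdeal y hU]
      refine le_antisymm (Ideal.map_le_iff_le_comap.2 fun a ha => ?_)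
        ((Ideal.span_singleton_le_iff_mem _).2 (Ideal.mem_map_of_mem _ hf))
      have hunit : IsUnit (ρ G) := by
        have := X.toRingedSpace.isUnit_res_basicOpen G
        exact this
      obtain ⟨r, hr⟩ := Ideal.mem_span_singleton'.1 (hle a ha)
      refine Ideal.mem_span_singleton'.2 ⟨(↑hunit.unit⁻¹ : Γ(X, X.basicOpen G)) * ρ r, ?_⟩
      rw [mul_assoc, ← map_mul, hr, map_mul, ← mul_assoc]
      simp
    haveI : Nonempty W.1 := ⟨⟨y, hyG⟩⟩
    refine ⟨W, hyG, ρ f, mem_nonZeroDivisors_of_ne_zero fun h0 => ?_, hW⟩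
    replace hW : (W.2.primeIdealOf ⟨y, hyG⟩).asIdeal = ⊥ :=
      (CohDev.ideal_ptIdeal y (V := W) hyG).symm.trans (hW.trans (Ideal.span_singleton_eq_bot.2 h0))
    have hmin : genericPoint X ⤳ y := genericPoint_specializes y
    have hξW : genericPoint X ∈ W.1 := hmin.mem_open W.1.isOpen hyG
    have h2 : (W.2.primeIdealOf ⟨y, hyG⟩).asIdeal ≤ (W.2.primeIdealOf ⟨genericPoint X, hξW⟩).asIdeal := by
      rw [hW]; exact bot_le
    have h3 : y = genericPoint X :=
      (((CohDev.primeIdealOf_le_iff W.2 hyG hξW).1 h2).antisymm hmin).eq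
    have h4 := CurveDVR.coheight_eq_one (X ↘ Spec (CommRingCat.of k)) hdim hxc
    rw [h3, Order.coheight_eq_zero.2 (fun z _ => genericPoint_specializes z)] at h4
    exact zero_ne_one h4
  · obtain ⟨U, hyU, hU⟩ := IdealSh.Comap.exists_affine_le y ⟨{x}ᶜ, hxc.isOpen_compl⟩ hy
    refine ⟨U, hyU, 1, one_mem _, ?_⟩
    rw [Ideal.span_singleton_one, Ideal.eq_top_iff_one,
      show (IntMult.ptIdeal x).ideal U = PrimeSpectrum.vanishingIdeal (U.2.fromSpec ⁻¹' closure {x}) from
        Scheme.IdealSheafData.vanishingIdeal_ideal _ U, PrimeSpectrum.mem_vanishingIdeal]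
    intro q hq
    have hmem : U.2.fromSpec q ∈ (U.1 : Set X) := U.2.range_fromSpec ▸ Set.mem_range_self q
    rw [hxc.closure_eq] at hq
    exact absurd hq (hU hmem)

include k in
/-- The structure sheaf of a closed point over an algebraically closed field has one-dimensional sections. -/
theorem finrank_quotMod_ptIdeal [IsAlgClosed k] (x : X) :
    Module.finrank k (Coh.HH X (ClSub.quotMod (IntMult.ptIdeal x)) 0) = 1 := by
  let D := IntMult.ptIdeal x
  haveI : IsIntegral D.subscheme :=
    Groth.Agent.S16188.isIntegral_subscheme _ isIrreducible_singleton.closure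
  letI : D.subscheme.Over (Spec (CommRingCat.of k)) := ⟨D.subschemeι ≫ (X ↘ Spec (CommRingCat.of k))⟩
  haveI : IsProper (D.subscheme ↘ Spec (CommRingCat.of k)) :=
    inferInstanceAs (IsProper (D.subschemeι ≫ (X ↘ Spec (CommRingCat.of k))))
  obtain ⟨e⟩ := nonempty_pushEquiv D.subschemeι (A := k) rfl (Coh.structureModule D.subscheme)
    (ProjTwist.isQuasicoherent_structureModule D.subscheme) 0
  exact e.finrank_eq.trans (VBLib.finrank_H0_structure_eq_one VBLib.bijective_toGlobal_of_isAlgClosed)

include k hdim in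
/-- An invertible module without `H¹` and with a section may lose one dimension of sections. -/
theorem exists_sub_point [IsAlgClosed k] {N : X.Modules} (hN : PicF.IsInvertible N)
    [Subsingleton (Coh.HH X N 1)] (hpos : 0 < Module.finrank k (Coh.HH X N 0)) :
    ∃ N' : X.Modules, PicF.IsInvertible N' ∧ Subsingleton (Coh.HH X N' 1) ∧
      Module.finrank k (Coh.HH X N' 0) + 1 = Module.finrank k (Coh.HH X N 0) := by
  haveI := isNoetherian k (X := X)
  have hO := PicLoc.isInvertible_structureModule X
  have hOc := VBLib.isCoh_of_ofRank (ProjTwist.isFinLocFreeOfRank_one hO)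
  have hN1 := ProjTwist.isFinLocFreeOfRank_one hN
  have hNc := VBLib.isCoh_of_ofRank hN1
  -- a nonzero section
  haveI := Module.nontrivial_of_finrank_pos hpos
  obtain ⟨σ, hσ⟩ := exists_ne (0 : Coh.HH X N 0)
  let B := CohDev.tens N (Coh.structureModule X)
  obtain ⟨σ', hσ'⟩ : ∃ σ' : Coh.HH X B 0, σ' ≠ 0 := by
    obtain ⟨τ, hτ⟩ := (CohLin.hIso (tensOne' N) 0).surjective σ
    exact ⟨τ, fun h => hσ (by rw [← hτ, h, map_zero])⟩
  have hB : PicF.IsInvertible B := isInvertible_tensorMod hN hO
  let s := homOfSec (ProperFin.h0Sec B σ')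
  have hsec : sec s ⊤ = ProperFin.h0Sec B σ' := by
    rw [show sec s ⊤ = _ from sec_homOfSec (ProperFin.h0Sec B σ') ⊤, QCoh.res_self]
  have hs : s ≠ 0 := fun h0 => hσ' ((ProperFin.h0Sec B).injective (by
    rw [map_zero, ← hsec, h0]
    rfl))
  have hBc := isCoh_tens k hN1 hOc
  have hK : Coh.IsCoh (cokernel s) := CohDev.isCoh_cokernel s hOc.1 hBc
  obtain ⟨x, hxZ, hxc, hp⟩ := exists_good_point k hdim (CohDev.isClosed_support hK)
    (CohDev.not_mem_support_cokernel s (bijective_stalk_generic hO hB s hs).2)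
  have hD := isEffCartier_ptIdeal k hdim hxc hp
  have hI := IdealSh.IdealMod.isInvertible_of_isEffCartierIdeal _ hD
  have hIc := VBLib.isCoh_of_ofRank (ProjTwist.isFinLocFreeOfRank_one hI)
  have hQ := isCoh_quotMod k (IntMult.ptIdeal x)
  have hQd := (TopDimLib.topDim_le_of_subset (support_quotMod_subset _)).trans
    (dim_support_divisor _ hdim.le hD)
  obtain ⟨f, g, w, hw⟩ := exists_tens_seq k hN1 (shortExact_ideal (IntMult.ptIdeal x))
  have hCc := isCoh_tens k hN1 hQ
  have hCd : topologicalKrullDim ↥(CohB1.support (CohDev.tens N (ClSub.quotMod (IntMult.ptIdeal x)))) ≤ 0 :=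
    (TopDimLib.topDim_le_of_subset (CohDev.support_tens_subset N _)).trans hQd
  have hC1 : Module.finrank k (Coh.HH X (CohDev.tens N (ClSub.quotMod (IntMult.ptIdeal x))) 0) = 1 := by
    have h := euler_tens_of_support k hN1 hQ hQd
    rw [euler_eq_finrank_of_support k hCc hCd, euler_eq_finrank_of_support k hQ hQd,
      finrank_quotMod_ptIdeal k x] at h
    simp only [Nat.cast_one, mul_one] at h
    exact_mod_cast h
  -- the section does not die at the point
  have hxC : x ∈ CohB1.support (CohDev.tens N (ClSub.quotMod (IntMult.ptIdeal x))) := by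
    haveI := hNc.2
    haveI := hNc.1
    haveI := hQ.1
    haveI := hQ.2
    refine (LimTop.TensorQC.mem_support_tensM _ _ x).2 ⟨fun hsub => ?_, fun hsub => ?_⟩
    · obtain ⟨e⟩ := stalk_ofRank hN1 x
      haveI := e.toEquiv.subsingleton_congr.2 hsub
      exact one_ne_zero (congrFun (Subsingleton.elim (1 : Fin 1 → X.presheaf.stalk x) 0) 0)
    · have h := euler_of_isZero k (CohDev.isZero_of_support_eq_empty (M := ClSub.quotMod (IntMult.ptIdeal x))
        (Set.eq_empty_iff_forall_notMem.2 fun z hz => by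
          have hzx : z ∈ closure ({x} : Set X) :=
            CohDev.coe_support_ptIdeal x ▸ support_quotMod_subset _ hz
          rw [hxc.closure_eq, Set.mem_singleton_iff] at hzx
          exact hz (hzx ▸ hsub)))
      rw [euler_eq_finrank_of_support k hQ hQd, finrank_quotMod_ptIdeal k x] at h
      norm_num at h
  have hgne : CohLin.overLin k (CohLin.hMap g 0) ≠ 0 := fun h0 => by
    have hz : CohLin.hMap g 0 σ' = 0 := LinearMap.congr_fun h0 σ'
    have h1 : stalkLin g x (germM B ⊤ x trivial (sec s ⊤)) = 0 := by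
      rw [stalkLin_germ, hsec]
      refine Eq.trans (congrArg (germM _ ⊤ x trivial) ((ProperFin.h0Sec_hMap g σ').symm.trans
        ((congrArg (ProperFin.h0Sec _) hz).trans (map_zero _)))) ?_
      exact map_zero _
    refine hxC (subsingleton_of_forall_eq 0 fun c => ?_)
    obtain ⟨-, -, hgs⟩ := stalk_exact hw x
    obtain ⟨m, rfl⟩ := hgs c
    have hsurj : Function.Surjective (stalkLin s x) := fun m => by
      have hS : (ShortComplex.mk s (cokernel.π s) (cokernel.condition s)).ShortExact :=
        { exact := ShortComplex.exact_of_g_is_cokernel _ (cokernelIsCokernel s)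
          mono_f := mono_of_ne_zero hO hB s hs
          epi_g := inferInstanceAs (Epi (cokernel.π s)) }
      obtain ⟨-, he, -⟩ := stalk_exact hS x
      exact (he m).1 (@Subsingleton.elim _ (not_not.1 hxZ) _ _)
    obtain ⟨a, rfl⟩ := hsurj m
    obtain ⟨W, hxW, r, rfl⟩ := exists_germM_eq _ x a
    rw [stalkLin_germ]
    have e : s.app W r = (show Γ(X, W) from r) • sec s W := app_eq s W r
    rw [e, germM_smul, map_smul, ← sec_res s (le_top : W ≤ ⊤)]
    refine Eq.trans (congrArg (fun z => _ • stalkLin g x z)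
      (B.presheaf.germ_res_apply (homOfLE (le_top : W ≤ ⊤)) x hxW (sec s ⊤))) ?_
    exact (congrArg (fun z => _ • z) h1).trans (smul_zero _)
  haveI := finite_HH k _ hCc 0
  have hgsur : Function.Surjective (CohLin.overLin k (CohLin.hMap g 0)) := LinearMap.range_eq_top.1
    (Submodule.eq_top_of_finrank_eq (le_antisymm (Submodule.finrank_le _) (by
      rw [hC1]
      exact Nat.one_le_iff_ne_zero.2 fun h => hgne (LinearMap.range_eq_bot.1 (Submodule.finrank_eq_zero.1 h)))))
  haveI : Subsingleton (Coh.HH X B 1) := (CohLin.hIso (tensOne' N) 1).toEquiv.subsingleton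
  have hA1 : Subsingleton (Coh.HH X (CohDev.tens N (ClSub.idealMod (IntMult.ptIdeal x))) 1) :=
    subsingleton_of_forall_eq 0 fun y => by
      obtain ⟨z, rfl⟩ := CohLin.exists_hδ_eq hw y (Subsingleton.elim _ _)
      obtain ⟨t, rfl⟩ := hgsur z
      exact CohLin.hδ_hMap_g hw t
  refine ⟨_, isInvertible_tensorMod hN hI, hA1, ?_⟩
  have hA := isCoh_tens k hN1 hIc
  have h2 : ∀ {M : X.Modules}, Coh.IsCoh M → Subsingleton (Coh.HH X M 1) →
      Curv2.euler k X M = (Module.finrank k (Coh.HH X M 0) : ℤ) := fun hM h => by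
    rw [euler_eq_sum k (t := 1) fun p hp => ?_]
    · simp
    · rcases Nat.lt_or_ge 1 p with hp' | hp'
      · exact subsingleton_HH_two_le k hdim _ hp'
      · obtain rfl : p = 1 := le_antisymm hp' hp
        exact h
  have h3 := euler_add' k f g w hw hA hBc hCc
  rw [euler_eq_finrank_of_support k hCc hCd, hC1, h2 hA hA1, h2 hBc inferInstance,
    (LinearEquiv.ofBijective (CohLin.overLin k (CohLin.hMap (tensOne' N).hom 0))
      (CohLin.hIso (tensOne' N) 0).bijective).finrank_eq] at h3
  push_cast at h3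
  change Module.finrank k (Coh.HH X (CohDev.tens N (ClSub.idealMod (IntMult.ptIdeal x))) 0) + 1 = _
  omega

include k hdim in
/-- Every number of sections is reached by invertible modules without `H¹`. -/
theorem exists_h0_eq [IsAlgClosed k] : ∃ n₀ : ℕ, ∀ m ≤ n₀ + 1,
    ∃ N : X.Modules, PicF.IsInvertible N ∧ Module.finrank k (Coh.HH X N 0) = m ∧
      Subsingleton (Coh.HH X N 1) := by
  haveI := isNoetherian k (X := X)
  haveI : X.IsSeparated := ⟨by
    rw [show terminal.from X = (X ↘ Spec (CommRingCat.of k)) ≫ terminal.from _ from Subsingleton.elim _ _]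
    infer_instance⟩
  obtain ⟨M, hM⟩ := DimOneAmple.exists_ample_of_dim_le_one X hdim.le
  have hd := deg_pos_of_isAmple k hdim hM
  have hO := PicLoc.isInvertible_structureModule X
  have hO1 := ProjTwist.isFinLocFreeOfRank_one hO
  obtain ⟨a₀, ha₀⟩ := exists_h1_vanish k hdim hM.1 hd (VBLib.isCoh_of_ofRank hO1)
  let a := a₀ + (Curv2.euler k X (Coh.structureModule X)).natAbs + 1
  have hP := isInvertible_tensorPow hM.1 a
  have hN := isInvertible_tensorMod hP hO
  haveI := ha₀ a (by omega)
  have hdeg := deg_tensorPow k hdim hM.1 a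
  rw [Curv2.deg, Nat.cast_one, one_mul, ← euler_iso k (tensOne' (CohB1.tensorPow M a))] at hdeg
  have hle := euler_le_h0 k hdim (VBLib.isCoh_of_ofRank (ProjTwist.isFinLocFreeOfRank_one hN))
  have hpos : 1 ≤ Module.finrank k (Coh.HH X (CohB1.tensorMod (CohB1.tensorPow M a) (Coh.structureModule X)) 0) := by
    have : (a : ℤ) * Curv2.deg k X M 1 ≥ a := le_mul_of_one_le_right (by positivity) hd
    change Curv2.euler k X (CohB1.tensorMod (CohB1.tensorPow M a) (Coh.structureModule X)) ≤ _ at hle
    change Curv2.euler k X (CohB1.tensorMod (CohB1.tensorPow M a) (Coh.structureModule X)) - _ = _ at hdeg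
    omega
  refine ⟨Module.finrank k (Coh.HH X (CohB1.tensorMod (CohB1.tensorPow M a) (Coh.structureModule X)) 0) - 1,
    fun m hm => ?_⟩
  rw [Nat.sub_add_cancel hpos] at hm
  induction hm using Nat.decreasingInduction with
  | self => exact ⟨_, hN, rfl, inferInstance⟩
  | of_succ m _ ih =>
    obtain ⟨N, hN', hNh, hN1⟩ := ih
    obtain ⟨N', h, h', h''⟩ := exists_sub_point k hdim hN' (by omega)
    exact ⟨N', h, by omega, h'⟩

end Groth.Agent.EulerChar
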