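import Groth.Agent.EulerChar.AmpleCurve
import Groth.Agent.AmpCrit.NegVan
import Groth.Agent.KFlat.StalkFlat
import Groth.Agent.KFlat.StalkCx

/-!
# Vanishing of `H¹` for twists by a module of positive degree on an integral curve

For `m` large the space of sections of `L^m` has dimension above the square of the stable `h¹`, so some
nonzero section induces zero on `H¹`; every nonzero section induces a surjection, so `H¹` is zero.
-/

universe u

open CategoryTheory CategoryTheory.Limits AlgebraicGeometry TopologicalSpace Opposite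
open Groth.Agent.PullStalk.Sky Groth.Agent.PullStalk.Exact
open Groth.Agent.Props.GenLocus Groth.Agent.AmpleLib Groth.Agent.Props.GenTensor

set_option linter.style.haveILetI false

noncomputable section

namespace Groth.Agent.EulerChar

variable {X : Scheme.{u}}

theorem hom_eq_of_sec {L : X.Modules} {φ ψ : Coh.structureModule X ⟶ L}
    (h : ∀ U, sec φ U = sec ψ U) : φ = ψ := by
  ext V a
  change φ.app V a = ψ.app V a
  have h1 : φ.app V a = (show Γ(X, V) from a) • sec φ V := app_eq φ V a
  have h2 : ψ.app V a = (show Γ(X, V) from a) • sec ψ V := app_eq ψ V a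
  rw [h1, h2, h]

theorem homOfSec_add {L : X.Modules} (σ τ : Γ(L, ⊤)) : homOfSec (σ + τ) = homOfSec σ + homOfSec τ :=
  hom_eq_of_sec fun U => by
    rw [sec_homOfSec, map_add]
    exact (congrArg₂ (· + ·) (sec_homOfSec σ U) (sec_homOfSec τ U)).symm

theorem homOfSec_smul {L : X.Modules} (r : Γ(X, ⊤)) (σ : Γ(L, ⊤)) :
    homOfSec (r • σ) = homOfSec (L := Coh.structureModule X) r ≫ homOfSec σ :=
  hom_eq_of_sec fun U => by
    rw [sec_homOfSec, QCoh.res_smul]
    refine Eq.trans ?_ (congrArg ((homOfSec σ).app U) (sec_homOfSec (L := Coh.structureModule X) r U)).symm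
    exact ((app_eq (homOfSec σ) U _).trans (congrArg _ (sec_homOfSec σ U))).symm

/-- A global function acts on `O ⊗ F` as the scalar. -/
theorem abMap_homOfSec (F : X.Modules) (r : Γ(X, ⊤)) :
    CohLin.abMap ((AmpCrit.NegVan.T F).map (homOfSec (L := Coh.structureModule X) r)) =
      Coh.smulAb (CohB1.tensorMod (Coh.structureModule X) F) (show Coh.Γtop X from r) := by
  refine ObjectProperty.hom_ext _ ?_
  refine sheafify_hom_ext (Opens.grothendieckTopology X) (P := (pre (Coh.structureModule X) F).presheaf) _ _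
    (Coh.toAb (CohB1.tensorMod (Coh.structureModule X) F)).property ?_
  suffices key : η (Coh.structureModule X) F ≫
      (CohLin.abMap ((AmpCrit.NegVan.T F).map (homOfSec (L := Coh.structureModule X) r))).hom =
      η (Coh.structureModule X) F ≫
        (Coh.smulAb (CohB1.tensorMod (Coh.structureModule X) F) (show Coh.Γtop X from r)).hom by
    rw [η_eq] at key
    exact key
  refine NatTrans.ext (funext fun V => ?_)
  ext t
  induction t using TensorProduct.induction_on with
  | zero => exact (map_zero _).trans (map_zero _).symm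
  | tmul a b =>
    let a' : Γ(Coh.structureModule X, V.unop) := a
    let b' : Γ(F, V.unop) := b
    let c : Γ(X, V.unop) := Coh.resTop X V (show Coh.Γtop X from r)
    change ((AmpCrit.NegVan.T F).map (homOfSec (L := Coh.structureModule X) r)).app V.unop (tmul a' b') =
      c • tmul a' b'
    rw [AmpCrit.NegVan.map_tmul, ← tmul_smul_left]
    congr 1
    refine (app_eq (homOfSec (L := Coh.structureModule X) r) V.unop a').trans ?_
    rw [sec_homOfSec]
    exact mul_comm (show Γ(X, V.unop) from a') _
  | add a b ha hb => exact (map_add _ a b).trans ((congrArg₂ (· + ·) ha hb).trans (map_add _ a b).symm)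

/-- `L^m ⊗ L^n ≅ L^(m+n)` -/
def powTens (L : X.Modules) (m : ℕ) : ∀ n : ℕ,
    CohB1.tensorMod (CohB1.tensorPow L m) (CohB1.tensorPow L n) ≅ CohB1.tensorPow L (m + n)
  | 0 => ProjTwist.tensOne _
  | n + 1 => (ProjTwist.tensAssoc (CohB1.tensorPow L m) (CohB1.tensorPow L n) L).symm ≪≫
      ProjTwist.tensCongr (powTens L m n) (Iso.refl L)

variable [IsIntegral X] (k : Type u) [Field k] [X.Over (Spec (CommRingCat.of k))]
  [IsProper (X ↘ Spec (CommRingCat.of k))] (hdim : topologicalKrullDim X = 1)

include k hdim in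
/-- A map bijective at the generic point is surjective on `H¹`. -/
theorem surjective_h1_of_generic {A B : X.Modules} (f : A ⟶ B) (hA : Coh.IsCoh A) (hB : Coh.IsCoh B)
    (hf : Function.Bijective (stalkLin f (genericPoint X))) :
    Function.Surjective (CohLin.hMap f 1) := by
  haveI := isNoetherian k (X := X)
  have hI : Coh.IsCoh (Abelian.image f) := CohDev.isCoh_image f hA hB.1
  have hCc := CohDev.isCoh_cokernel f hA.1 hB
  have hCd := dim_support_le_zero k hdim hCc (CohDev.not_mem_support_cokernel f hf.2)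
  let S₁ := ShortComplex.mk (kernel.ι f) (Abelian.factorThruImage f)
    ((cancel_mono (Abelian.image.ι f)).mp (by simp))
  have hS₁ : S₁.ShortExact := by
    refine { exact := ShortComplex.exact_of_f_is_kernel _ ?_ }
    refine KernelFork.IsLimit.ofι' _ _ fun {C} a ha => ⟨kernel.lift f a ?_, kernel.lift_ι _ _ _⟩
    rw [← Abelian.image.fac f, ← Category.assoc]
    exact (congrArg (· ≫ Abelian.image.ι f) ha).trans zero_comp
  have hS₂ : (ShortComplex.mk (Abelian.image.ι f) (cokernel.π f) (kernel.condition _)).ShortExact :=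
    ShortComplex.ShortExact.mk' (ShortComplex.exact_kernel (cokernel.π f))
      (inferInstanceAs (Mono (kernel.ι (cokernel.π f)))) (inferInstanceAs (Epi (cokernel.π f)))
  haveI : Subsingleton (Coh.HH X (cokernel f) 1) := subsingleton_HH_of_support k hCc hCd 0
  haveI : Subsingleton (Coh.HH X (kernel f) 2) := subsingleton_HH_two_le k hdim _ one_lt_two
  intro y
  obtain ⟨z, hz⟩ := CohLin.exists_hMap_f_eq hS₂ y (Subsingleton.elim _ _)
  obtain ⟨x, hx⟩ := CohLin.exists_hMap_g_eq hS₁ z (Subsingleton.elim _ _)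
  refine ⟨x, ?_⟩
  rw [← Abelian.image.fac f, CohLin.hMap_comp]
  exact (congrArg _ hx).trans hz

omit [IsIntegral X] in
/-- A map composed after a scalar. -/
theorem hMap_comp_scal {M N : X.Modules} (e : M ⟶ M) (f : M ⟶ N) (r : Coh.Γtop X)
    (he : CohLin.abMap e = Coh.smulAb M r) (n : ℕ) (x : Coh.HH X M n) :
    CohLin.hMap (e ≫ f) n x = r • CohLin.hMap f n x := by
  rw [CohLin.hMap_comp]
  refine Eq.trans (congrArg _ ?_) ((CohLin.hMap f n).map_smul r x)
  show Sheaf.H.map (CohLin.abMap e) n x = Sheaf.H.map (Coh.smulAb M r) n x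
  rw [he]

omit [IsIntegral X] in
theorem hMap_T_smul (P F : X.Modules) (r : Coh.Γtop X) (σ τ : Γ(P, ⊤))
    (hτ : τ = (show Γ(X, ⊤) from r) • σ) (x : Coh.HH X (CohB1.tensorMod (Coh.structureModule X) F) 1) :
    CohLin.hMap ((AmpCrit.NegVan.T F).map (homOfSec τ)) 1 x =
      r • CohLin.hMap ((AmpCrit.NegVan.T F).map (homOfSec σ)) 1 x := by
  rw [hτ, homOfSec_smul, Functor.map_comp]
  exact hMap_comp_scal _ _ r (abMap_homOfSec F (show Γ(X, ⊤) from r)) 1 x

omit [IsIntegral X] [IsProper (X ↘ Spec (CommRingCat.of k))] in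
/-- Multiplication by sections, linear in the section. -/
def mulH1 (P F : X.Modules) :
    Coh.HH X P 0 →ₗ[k] (Coh.HH X (CohB1.tensorMod (Coh.structureModule X) F) 1 →ₗ[k]
      Coh.HH X (CohB1.tensorMod P F) 1) where
  toFun c := CohLin.overLin k
    (CohLin.hMap ((AmpCrit.NegVan.T F).map (homOfSec (ProperFin.h0Sec P c))) 1)
  map_add' c d := LinearMap.ext fun x => by
    haveI : (AmpCrit.NegVan.T F).Additive := KFlat.additive_tensorBi_flip F
    show CohLin.hMap _ 1 x = CohLin.hMap _ 1 x + CohLin.hMap _ 1 x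
    rw [map_add, homOfSec_add, Functor.map_add]
    exact CohLin.hMap_add _ _ 1 x
  map_smul' a c := LinearMap.ext fun x =>
    hMap_T_smul P F (Coh.toGlobal (X ↘ Spec (CommRingCat.of k)) a) (ProperFin.h0Sec P c) _
      (ProperFin.h0Sec_smul P (Coh.toGlobal (X ↘ Spec (CommRingCat.of k)) a) c) x

include k hdim in
theorem surjective_mulH1 {P F : X.Modules} (hP : PicF.IsInvertible P) (hF : Coh.IsCoh F)
    {c : Coh.HH X P 0} (hc : c ≠ 0) : Function.Surjective (mulH1 k P F c) := by
  haveI := isNoetherian k (X := X)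
  let φ := homOfSec (ProperFin.h0Sec P c)
  have hφ : φ ≠ 0 := fun h0 => hc ((ProperFin.h0Sec P).injective (by
    rw [map_zero]
    have h1 := sec_homOfSec (ProperFin.h0Sec P c) ⊤
    rw [show homOfSec (ProperFin.h0Sec P c) = 0 from h0, QCoh.res_self] at h1
    exact h1.symm.trans rfl))
  refine surjective_h1_of_generic k hdim _
    (CohDev.isCoh_tens (ProjTwist.isFinLocFreeOfRank_one (PicLoc.isInvertible_structureModule X)) hF)
    (CohDev.isCoh_tens (ProjTwist.isFinLocFreeOfRank_one hP) hF) ?_
  have hb := bijective_stalk_generic (PicLoc.isInvertible_structureModule X) hP φ hφ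
  have he : ∀ t, KFlat.StalkTensor.stalkTensorEquiv P F (genericPoint X)
      (stalkLin ((AmpCrit.NegVan.T F).map φ) (genericPoint X) t) =
      LinearEquiv.rTensor (F.presheaf.stalk (genericPoint X)) (LinearEquiv.ofBijective _ hb)
        (KFlat.StalkTensor.stalkTensorEquiv (Coh.structureModule X) F (genericPoint X) t) := fun t =>
    KFlat.StalkTensor.stalkTensor_natural_left (genericPoint X) φ F t
  have e2 : ⇑(stalkLin ((AmpCrit.NegVan.T F).map φ) (genericPoint X)) =
      ⇑((KFlat.StalkTensor.stalkTensorEquiv (Coh.structureModule X) F (genericPoint X)).trans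
        ((LinearEquiv.rTensor (F.presheaf.stalk (genericPoint X)) (LinearEquiv.ofBijective _ hb)).trans
          (KFlat.StalkTensor.stalkTensorEquiv P F (genericPoint X)).symm)) :=
    funext fun t => ((LinearEquiv.symm_apply_eq _).2 (he t).symm).symm
  rw [e2]
  exact LinearEquiv.bijective _

include k hdim in
/-- Serre vanishing for a module of positive degree on an integral proper curve. -/
theorem exists_h1_vanish {L : X.Modules} (hL : PicF.IsInvertible L) (hd : 0 < Curv2.deg k X L 1)
    {G : X.Modules} (hG : Coh.IsCoh G) :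
    ∃ n₀ : ℕ, ∀ n, n₀ ≤ n → Subsingleton (Coh.HH X (CohB1.tensorMod (CohB1.tensorPow L n) G) 1) := by
  haveI := isNoetherian k (X := X)
  have hO := PicLoc.isInvertible_structureModule X
  have hPow : ∀ n, PicF.IsInvertible (CohB1.tensorPow L n) := isInvertible_tensorPow hL
  have hA : ∀ n, Coh.IsCoh (CohB1.tensorMod (CohB1.tensorPow L n) G) := fun n =>
    CohDev.isCoh_tens (ProjTwist.isFinLocFreeOfRank_one (hPow n)) hG
  let h : ℕ → ℕ := fun n => Module.finrank k (Coh.HH X (CohB1.tensorMod (CohB1.tensorPow L n) G) 1)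
  let χ := Curv2.euler k X (Coh.structureModule X)
  let m₁ := χ.natAbs + 1
  have hsec : ∀ m, m₁ ≤ m → (m : ℤ) - χ.natAbs ≤ Module.finrank k (Coh.HH X (CohB1.tensorPow L m) 0) := by
    intro m hm
    have h1 := euler_le_h0 k hdim (VBLib.isCoh_of_ofRank (ProjTwist.isFinLocFreeOfRank_one (hPow m)))
    have h2 := deg_tensorPow k hdim hL m
    rw [Curv2.deg, Nat.cast_one, one_mul] at h2
    have h3 : (m : ℤ) ≤ m * Curv2.deg k X L 1 := le_mul_of_one_le_right (by positivity) hd
    simp only [m₁, χ] at hm ⊢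
    omega
  let e : ∀ m n, Coh.HH X (CohB1.tensorMod (CohB1.tensorPow L m) (CohB1.tensorMod (CohB1.tensorPow L n) G)) 1 ≃ₗ[k]
      Coh.HH X (CohB1.tensorMod (CohB1.tensorPow L (m + n)) G) 1 := fun m n =>
    LinearEquiv.ofBijective (CohLin.overLin k (CohLin.hMap
      ((ProjTwist.tensAssoc _ _ G).symm ≪≫ ProjTwist.tensCongr (powTens L m n) (Iso.refl G)).hom 1))
      (CohLin.hIso ((ProjTwist.tensAssoc _ _ G).symm ≪≫ ProjTwist.tensCongr (powTens L m n) (Iso.refl G)) 1).bijective
  let e₀ : ∀ n, Coh.HH X (CohB1.tensorMod (Coh.structureModule X) (CohB1.tensorMod (CohB1.tensorPow L n) G)) 1 ≃ₗ[k]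
      Coh.HH X (CohB1.tensorMod (CohB1.tensorPow L n) G) 1 := fun n =>
    LinearEquiv.ofBijective (CohLin.overLin k (CohLin.hMap (ProjTwist.oneTens _).hom 1))
      (CohLin.hIso (ProjTwist.oneTens _) 1).bijective
  have hmono : ∀ m n, m₁ ≤ m → h (m + n) ≤ h n := fun m n hm => by
    have hpos : 0 < Module.finrank k (Coh.HH X (CohB1.tensorPow L m) 0) := by
      have := hsec m hm
      simp only [m₁] at hm
      omega
    haveI := Module.nontrivial_of_finrank_pos hpos
    obtain ⟨c, hc⟩ := exists_ne (0 : Coh.HH X (CohB1.tensorPow L m) 0)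
    have hs := surjective_mulH1 k hdim (hPow m) (hA n) hc
    haveI := finite_HH k _ (hA n) 1
    haveI : Module.Finite k (Coh.HH X (CohB1.tensorMod (Coh.structureModule X) (CohB1.tensorMod (CohB1.tensorPow L n) G)) 1) :=
      Module.Finite.equiv (e₀ n).symm
    calc h (m + n) = _ := (e m n).finrank_eq.symm
      _ = Module.finrank k (LinearMap.range (mulH1 k (CohB1.tensorPow L m) _ c)) := by
          rw [LinearMap.range_eq_top.2 hs, finrank_top]
      _ ≤ _ := LinearMap.finrank_range_le _
      _ = h n := (e₀ n).finrank_eq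
  let a := Function.argmin h
  have hmin : ∀ n, m₁ + a ≤ n → h n = h a := fun n hn => by
    refine le_antisymm ?_ (Function.argmin_le h n)
    obtain ⟨m, rfl⟩ := Nat.exists_eq_add_of_le' (show a ≤ n by omega)
    exact hmono m a (by omega)
  refine ⟨m₁ + a, fun n hn => ?_⟩
  let m := m₁ + h a * h a
  haveI := finite_HH k _ (VBLib.isCoh_of_ofRank (ProjTwist.isFinLocFreeOfRank_one (hPow m))) 0
  haveI := finite_HH k _ (hA n) 1
  haveI := finite_HH k _ (hA (m + n)) 1
  haveI : Module.Finite k (Coh.HH X (CohB1.tensorMod (Coh.structureModule X) (CohB1.tensorMod (CohB1.tensorPow L n) G)) 1) :=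
    Module.Finite.equiv (e₀ n).symm
  haveI : Module.Finite k (Coh.HH X (CohB1.tensorMod (CohB1.tensorPow L m) (CohB1.tensorMod (CohB1.tensorPow L n) G)) 1) :=
    Module.Finite.equiv (e m n).symm
  let ψ := mulH1 k (CohB1.tensorPow L m) (CohB1.tensorMod (CohB1.tensorPow L n) G)
  have hninj : ¬ Function.Injective ψ := fun hi => by
    have h1 := LinearMap.finrank_le_finrank_of_injective hi
    rw [Module.finrank_linearMap, (e₀ n).finrank_eq, (e m n).finrank_eq] at h1
    change _ ≤ h n * h (m + n) at h1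
    rw [hmin n hn, hmin (m + n) (by omega)] at h1
    have h2 := hsec m (Nat.le_add_right _ _)
    simp only [m, m₁] at h2 h1 ⊢
    push_cast at h2
    zify at h1
    linarith
  obtain ⟨c, hc, hc0⟩ : ∃ c, ψ c = 0 ∧ c ≠ 0 := by
    by_contra hcon
    push Not at hcon
    exact hninj ((injective_iff_map_eq_zero _).2 hcon)
  have hs := surjective_mulH1 k hdim (hPow m) (hA n) hc0
  haveI : Subsingleton (Coh.HH X (CohB1.tensorMod (CohB1.tensorPow L m) (CohB1.tensorMod (CohB1.tensorPow L n) G)) 1) :=
    subsingleton_of_forall_eq 0 fun y => by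
      obtain ⟨x, rfl⟩ := hs y
      exact LinearMap.congr_fun hc x
  have hz : h (m + n) = 0 := (e m n).finrank_eq.symm.trans Module.finrank_zero_of_subsingleton
  rw [hmin (m + n) (by omega), ← hmin n hn] at hz
  exact Module.finrank_zero_iff.1 hz

end Groth.Agent.EulerChar
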