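import Groth.Agent.EulerChar.Components
import Groth.Agent.FBase.Dim

/-! Euler characteristic of a vector bundle tensor a coherent module on a curve. -/

universe u

open CategoryTheory CategoryTheory.Limits AlgebraicGeometry TopologicalSpace
open Groth.Agent.PullStalk.Sky Groth.Agent.PullStalk.Exact

set_option linter.style.haveILetI false

namespace Groth.Agent.EulerChar.ComponentsTens

open Groth.Agent Groth.Agent.EulerChar

variable {X : Scheme.{u}} [AlgebraicGeometry.IsNoetherian X]
variable (k : Type u) [Field k] [X.Over (Spec (CommRingCat.of k))] [IsProper (X ↘ Spec (CommRingCat.of k))]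

set_option maxHeartbeats 1000000 in
include k in
/-- Euler characteristics of twists by a vector bundle on a curve, component by component. -/
theorem euler_tens_eq_sum (hdim1 : ∀ Z ∈ irreducibleComponents (X : Type u), topologicalKrullDim Z = 1)
    {n : ℕ} {E : X.Modules} (hE : FlatMod.IsFinLocFreeOfRank n E) {F : X.Modules} (hF : Coh.IsCoh F) :
    Curv2.euler k X (CohB1.tensorMod E F) = (∑ᶠ Z : irreducibleComponents (X : Type u),
        ((Module.length (X.presheaf.stalk Z.2.1.genericPoint) (F.presheaf.stalk Z.2.1.genericPoint)).toNat : ℤ) *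
          @Curv2.deg k _ (X.irreducibleComponentIdeal Z.1 Z.2).radical.subscheme
            ⟨(X.irreducibleComponentIdeal Z.1 Z.2).radical.subschemeι ≫ (X ↘ (Spec (CommRingCat.of k)))⟩
            ((Scheme.Modules.pullback (X.irreducibleComponentIdeal Z.1 Z.2).radical.subschemeι).obj E) n) +
      (n : ℤ) * Curv2.euler k X F := by
  have hdim : topologicalKrullDim X ≤ 1 := FBase.Dim.topDim_le_of_components fun Z hZ => (hdim1 Z hZ).le
  classical
  haveI := (NoetherianSpace.finite_irreducibleComponents (α := X)).to_subtype
  cases nonempty_fintype (irreducibleComponents (X : Type u))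
  have hgen : ∀ Z : irreducibleComponents (X : Type u), IsGenericPoint Z.2.1.genericPoint Z.1 := fun Z => by
    have h := Z.2.1.isGenericPoint_genericPoint_closure
    rwa [(isClosed_of_mem_irreducibleComponents Z.1 Z.2).closure_eq] at h
  have hmax := fun Z : irreducibleComponents (X : Type u) => genericPoint_maximal Z.2 (hgen Z)
  let d : irreducibleComponents (X : Type u) → ℤ := fun Z =>
    dev k hE (CohDev.kcl (Cyc.closureStructureSheaf Z.2.1.genericPoint))
  -- every class is detected by lengths
  let Φ : SGA6.Kcoh X →+ ℤ := dev k hE - ∑ Z : irreducibleComponents (X : Type u),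
    if topologicalKrullDim (Z.1 : Set X) = 1 then (AddMonoidHom.mulRight (d Z)).comp (lenK _ (hmax Z)) else 0
  have hΦ : ∀ G : X.Modules, Coh.IsCoh G → Φ (CohDev.kcl G) = 0 := by
    intro G hG
    have hmem := CohDev.kcl_mem_closure_oz hG
    refine (show AddSubgroup.closure _ ≤ Φ.ker from (AddSubgroup.closure_le _).2 ?_) hmem
    rintro c ⟨x, -, rfl⟩
    have hx : Coh.IsCoh (Cyc.closureStructureSheaf x) := isCoh_quotMod k (IntMult.ptIdeal x)
    rw [SetLike.mem_coe, AddMonoidHom.mem_ker, AddMonoidHom.sub_apply, AddMonoidHom.finsetSum_apply, sub_eq_zero]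
    have hzero : ∀ Z : irreducibleComponents (X : Type u), Z.2.1.genericPoint ≠ x →
        lenK _ (hmax Z) (CohDev.kcl (Cyc.closureStructureSheaf x)) = 0 := fun Z hne => by
      haveI : Subsingleton ((Cyc.closureStructureSheaf x).presheaf.stalk Z.2.1.genericPoint) := by
        by_contra h
        exact hne ((hmax Z x (specializes_iff_mem_closure.2 (support_oz_subset x h))).symm)
      rw [lenK_kcl _ _ hx, Module.length_eq_zero, ENat.toNat_zero, Nat.cast_zero]
    by_cases hc : ∃ Z : irreducibleComponents (X : Type u), topologicalKrullDim (Z.1 : Set X) = 1 ∧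
        Z.2.1.genericPoint = x
    · obtain ⟨Z, hZ1, rfl⟩ := hc
      rw [Finset.sum_eq_single Z]
      · rw [if_pos hZ1, AddMonoidHom.comp_apply, lenK_kcl _ _ hx, CohDev.length_stalk_oz]
        simp [d]
      · intro Z' _ hne
        split_ifs
        · rw [AddMonoidHom.comp_apply, hzero Z' (fun h => hne (Subtype.ext (by
            rw [← (hgen Z').def, h, (hgen Z).def]))), map_zero]
        · rfl
      · simp
    · push Not at hc
      rw [Finset.sum_eq_zero fun Z _ => by
        split_ifs with h
        · rw [AddMonoidHom.comp_apply, hzero Z (hc Z h), map_zero]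
        · rfl]
      refine dev_eq_zero_of_support k hE hx ((TopDimLib.topDim_le_of_subset (support_oz_subset x)).trans ?_)
      obtain ⟨Z, hZ, hxZ⟩ : ∃ Z ∈ irreducibleComponents (X : Type u), x ∈ Z :=
        ⟨irreducibleComponent x, irreducibleComponent_mem_irreducibleComponents x, mem_irreducibleComponent⟩
      by_cases he : hZ.1.genericPoint = x
      · have hne1 : topologicalKrullDim Z ≠ 1 := fun h => hc ⟨Z, hZ⟩ h he
        have hle := (topologicalKrullDim_subspace_le X Z).trans hdim
        rw [← he, (hgen ⟨Z, hZ⟩).def]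
        revert hne1 hle
        cases topologicalKrullDim Z with
        | bot => intros; exact bot_le
        | coe a =>
          intro hne1 hle
          refine WithBot.coe_le_coe.2 (Order.lt_one_iff.1 (lt_of_le_of_ne (WithBot.coe_le_coe.1 hle) fun e => hne1 ?_)).le
          rw [e]
          rfl
      · have hcl := isClosed_singleton_of_specializes hdim ((hgen ⟨Z, hZ⟩).specializes hxZ) he
        rw [hcl.closure_eq]
        exact topDim_le_zero_of_finite (Set.finite_singleton x) fun z hz => by rwa [Set.mem_singleton_iff.1 hz]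
  have hO := hΦ _ hF
  rw [AddMonoidHom.sub_apply, AddMonoidHom.finsetSum_apply, sub_eq_zero, dev_kcl k hE hF] at hO
  have hsum : (∑ Z : irreducibleComponents (X : Type u),
      (if topologicalKrullDim (Z.1 : Set X) = 1 then (AddMonoidHom.mulRight (d Z)).comp (lenK _ (hmax Z)) else 0)
        (CohDev.kcl F)) = ∑ᶠ Z : irreducibleComponents (X : Type u),
        ((Module.length (X.presheaf.stalk Z.2.1.genericPoint) (F.presheaf.stalk Z.2.1.genericPoint)).toNat : ℤ) *
          @Curv2.deg k _ (X.irreducibleComponentIdeal Z.1 Z.2).radical.subscheme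
            ⟨(X.irreducibleComponentIdeal Z.1 Z.2).radical.subschemeι ≫ (X ↘ (Spec (CommRingCat.of k)))⟩
            ((Scheme.Modules.pullback (X.irreducibleComponentIdeal Z.1 Z.2).radical.subschemeι).obj E) n := by
    rw [finsum_eq_sum_of_fintype]
    refine Finset.sum_congr rfl fun Z _ => ?_
    rw [if_pos (hdim1 Z.1 Z.2), AddMonoidHom.comp_apply, lenK_kcl _ _ hF]
    simp only [AddMonoidHom.coe_mulRight, d]
    congr 1
    rw [radical_componentIdeal Z.2 (hgen Z)]
    exact dev_quotMod k (IntMult.ptIdeal Z.2.1.genericPoint) hE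
  rw [hsum, sub_eq_iff_eq_add] at hO
  exact hO

end Groth.Agent.EulerChar.ComponentsTens
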