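import Groth.Agent.EulerChar.PointCount
import Groth.Agent.EulerChar.AmpleCurve
import Groth.Agent.LenLib.DomainDet
import Groth.Agent.Ref1.Sp
import Groth.Agent.CurveDVR.Stalk
import Mathlib.RingTheory.Localization.Integer

/-!
# The degree from local frames on an integral curve

Two modules of ranks `r` and `r'` whose frames at every point differ from a frame at the generic
point by matrices of equal determinant have equal degree.
-/

universe u

open CategoryTheory CategoryTheory.Limits AlgebraicGeometry TopologicalSpace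
open Groth.Agent.PullStalk.Sky Groth.Agent.PullStalk.Exact Groth.Agent.LenLib
open Groth.Agent.Props.SubMod Groth.Agent.Props.SubSheaf Groth.Agent.Ref1
open scoped Matrix

set_option linter.style.haveILetI false

namespace Groth.Agent.EulerChar

/-- The index of two maps to free modules differing by a matrix. -/
theorem index_sub_index {R : Type*} [CommRing R] [IsDomain R] [IsNoetherianRing R] [Ring.KrullDimLE 1 R]
    {n : ℕ} {H : Type*} [AddCommGroup H] [Module R H] {a b : H →ₗ[R] (Fin n → R)} (ha : HasIndex a)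
    (hb : HasIndex b) {P : Matrix (Fin n) (Fin n) R} (hP : P.det ≠ 0) {d : R} (hd : d ≠ 0)
    (h : ∀ x, P *ᵥ a x = d • b x) :
    index a - index b = ordZ (d ^ n) - ordZ P.det := by
  let D : Matrix (Fin n) (Fin n) R := Matrix.diagonal fun _ => d
  have hD : D.det = d ^ n := by simp [D, Matrix.det_diagonal]
  have hD0 : D.det ≠ 0 := hD ▸ pow_ne_zero _ hd
  have e : P.mulVecLin ∘ₗ a = D.mulVecLin ∘ₗ b := LinearMap.ext fun x => by
    funext i
    simpa [D, Matrix.mulVec_diagonal] using congrFun (h x) i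
  have h1 := congrArg index e
  rw [index_comp (hasIndex_mulVecLin P hP) ha, index_comp (hasIndex_mulVecLin D hD0) hb,
    index_mulVecLin P hP, index_mulVecLin D hD0, hD] at h1
  omega

variable {X : Scheme.{u}}

/-- Specialisation commutes with maps of modules. -/
theorem sp_stalkLin {M N : X.Modules} (f : M ⟶ N) {y x : X} (h : y ⤳ x) (t : M.presheaf.stalk x) :
    sp N h (stalkLin f x t) = stalkLin f y (sp M h t) := by
  obtain ⟨U, hx, m, rfl⟩ := exists_germM_eq M x t
  rw [stalkLin_germ, sp_germ, sp_germ, stalkLin_germ]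

/-- Roofs realising a given isomorphism of stalks. -/
theorem exists_roof_compat [IsNoetherian X] {M N : X.Modules} (hM : Coh.IsCoh M) (hN : Coh.IsCoh N)
    (x : X) (θ : M.presheaf.stalk x ≃ₗ[X.presheaf.stalk x] N.presheaf.stalk x) :
    ∃ (H : X.Modules) (a : H ⟶ M) (b : H ⟶ N), Coh.IsCoh H ∧ Function.Bijective (stalkLin a x) ∧
      ∀ t, stalkLin b x t = θ (stalkLin a x t) := by
  classical
  haveI : M.IsQuasicoherent := hM.1
  haveI : N.IsQuasicoherent := hN.1
  obtain ⟨V, hV, hx, -⟩ := exists_isAffineOpen_mem_and_subset (X := X) (Opens.mem_top x)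
  obtain ⟨G, hG⟩ := (CohDev.finite_sections hM hV).fg_top
  choose n s hs hsn using fun m : Γ(M, V) ↦
    CycLib.exists_smul_germ_eq N hV hx (θ (germM M V x hx m))
  let B := M ⊞ N
  haveI : B.IsQuasicoherent := (CohDev.isCoh_biprod hM hN).1
  let e : Γ(M, V) → Γ(B, V) := fun m ↦
    (biprod.inl : M ⟶ B).app V (s m • m) + (biprod.inr : N ⟶ B).app V (n m)
  let T : Finset Γ(B, V) := G.image e
  let S₀ : StalkSub B := fun y ↦ if hy : y ∈ V then spanGerm (T : Set Γ(B, V)) y hy else ⊥
  have hS₀ : GenBy S₀ V (T : Set Γ(B, V)) := fun y hy ↦ dif_pos hy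
  obtain ⟨S, hS, hSV, -⟩ := exists_global hV.isCompact
    (show FTOn S₀ V from fun y hy ↦ ⟨V, hV, hy, le_rfl, T, hS₀⟩)
  let i₁ := stalkLin (biprod.inl : M ⟶ B) x
  let i₂ := stalkLin (biprod.inr : N ⟶ B) x
  let gr : M.presheaf.stalk x →ₗ[X.presheaf.stalk x] B.presheaf.stalk x := i₁ + i₂ ∘ₗ θ.toLinearMap
  have he : ∀ m, germM B V x hx (e m) = X.presheaf.germ V x hx (s m) • gr (germM M V x hx m) := by
    intro m
    have h1 : germM B V x hx (e m) =
        i₁ (germM M V x hx (s m • m)) + i₂ (germM N V x hx (n m)) := by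
      simp only [i₁, i₂]
      rw [stalkLin_germ, stalkLin_germ]
      exact map_add (B.presheaf.germ V x hx).hom _ _
    rw [h1, germM_smul, map_smul, ← hsn, map_smul, ← smul_add]
    rfl
  have hgen : Submodule.span (X.presheaf.stalk x)
      ((fun m ↦ germM M V x hx m) '' (G : Set Γ(M, V))) = ⊤ := by
    rw [eq_top_iff]
    intro t _
    obtain ⟨m, r, hr, hrt⟩ := CycLib.exists_smul_germ_eq M hV hx t
    obtain ⟨u, hu⟩ := hr
    have := Submodule.smul_mem _ (↑u⁻¹ : X.presheaf.stalk x)
      (germ_mem_spanGerm_of_mem_span (show m ∈ Submodule.span Γ(X, V) (G : Set Γ(M, V)) from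
        hG ▸ Submodule.mem_top) x hx)
    rwa [← hrt, ← hu, smul_smul, u.inv_mul, one_smul] at this
  have hSx : S x = LinearMap.range gr := by
    rw [hSV x hx, hS₀ x hx, spanGerm]
    refine le_antisymm (Submodule.span_le.mpr ?_) ?_
    · rintro _ ⟨t, ht, rfl⟩
      obtain ⟨m, -, rfl⟩ := Finset.mem_image.mp ht
      rw [SetLike.mem_coe, show (fun m ↦ germM B V x hx m) (e m) = _ from he m]
      exact Submodule.smul_mem _ _ (LinearMap.mem_range_self _ _)
    · rw [LinearMap.range_eq_map, ← hgen, Submodule.map_span, Submodule.span_le]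
      rintro _ ⟨_, ⟨m, hm, rfl⟩, rfl⟩
      obtain ⟨u, hu⟩ := hs m
      have hmem : germM B V x hx (e m) ∈ Submodule.span (X.presheaf.stalk x)
          ((fun m ↦ germM B V x hx m) '' (T : Set Γ(B, V))) :=
        Submodule.subset_span ⟨e m, Finset.mem_image_of_mem e hm, rfl⟩
      rw [he, ← hu] at hmem
      have := Submodule.smul_mem _ (↑u⁻¹ : X.presheaf.stalk x) hmem
      rwa [smul_smul, u.inv_mul, one_smul] at this
  have hrange : ∀ k, stalkLin (incl S) x k ∈ S x := fun k ↦ by
    obtain ⟨W, hxW, w, rfl⟩ := exists_germM_eq _ x k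
    rw [stalkLin_germ]
    exact (mem_range_incl S _).mp ⟨w, rfl⟩ x hxW
  have hsurj : ∀ v ∈ S x, ∃ k, stalkLin (incl S) x k = v := fun v hv ↦ by
    rw [hSV x hx, hS₀ x hx] at hv
    refine (Submodule.span_le (p := LinearMap.range (stalkLin (incl S) x))).mpr ?_ hv
    rintro _ ⟨t, ht, rfl⟩
    obtain ⟨w, hw⟩ := (mem_range_incl S t).mpr fun y hy ↦ by
      rw [hSV y hy, hS₀ y hy]; exact Submodule.subset_span ⟨t, ht, rfl⟩
    exact ⟨germM _ V x hx w, (stalkLin_germ _ V x hx w).trans (congrArg _ hw)⟩
  have h11 : ∀ w, stalkLin (biprod.fst : B ⟶ M) x (gr w) = w := fun w ↦ by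
    simp only [gr, i₁, i₂, LinearMap.add_apply, LinearMap.comp_apply, map_add]
    rw [← CohDev.stalkLin_comp_apply, ← CohDev.stalkLin_comp_apply, biprod.inl_fst, biprod.inr_fst,
      CohDev.stalkLin_id_apply, CohDev.stalkLin_zero_apply, add_zero]
  have h22 : ∀ w, stalkLin (biprod.snd : B ⟶ N) x (gr w) = θ w := fun w ↦ by
    simp only [gr, i₁, i₂, LinearMap.add_apply, LinearMap.comp_apply, map_add]
    rw [← CohDev.stalkLin_comp_apply, ← CohDev.stalkLin_comp_apply, biprod.inl_snd, biprod.inr_snd,
      CohDev.stalkLin_id_apply, CohDev.stalkLin_zero_apply, zero_add]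
    rfl
  have hgr : ∀ k, ∃ w, gr w = stalkLin (incl S) x k := fun k => hSx.le (hrange k)
  refine ⟨sub S, incl S ≫ biprod.fst, incl S ≫ biprod.snd,
    ⟨isQuasicoherent_sub hS, isFiniteType_sub hS⟩, ⟨fun k k' h ↦ ?_, fun w ↦ ?_⟩, fun k => ?_⟩
  · obtain ⟨w, hw⟩ := hgr k
    obtain ⟨w', hw'⟩ := hgr k'
    rw [CohDev.stalkLin_comp_apply, CohDev.stalkLin_comp_apply, ← hw, ← hw', h11, h11] at h
    exact CohDev.stalk_injective (incl S) x (by rw [← hw, ← hw', h])
  · obtain ⟨k, hk⟩ := hsurj (gr w) (hSx ▸ LinearMap.mem_range_self gr w)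
    exact ⟨k, by rw [CohDev.stalkLin_comp_apply, hk, h11]⟩
  · obtain ⟨w, hw⟩ := hgr k
    rw [CohDev.stalkLin_comp_apply, CohDev.stalkLin_comp_apply, ← hw, h11, h22]

/-! ### Coordinates of powers of the structure module -/

theorem bijective_unitStalk (x : X) : Function.Bijective (LinearMap.toSpanSingleton (X.presheaf.stalk x)
    ((Coh.structureModule X).presheaf.stalk x)
    (germM (Coh.structureModule X) ⊤ x trivial (Props.GenLocus.one' ⊤))) := by
  obtain ⟨eO⟩ := stalk_ofRank (ProjTwist.isFinLocFreeOfRank_one (PicLoc.isInvertible_structureModule X)) x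
  have hs : Function.Surjective (LinearMap.toSpanSingleton (X.presheaf.stalk x) ((Coh.structureModule X).presheaf.stalk x)
      (germM (Coh.structureModule X) ⊤ x trivial (Props.GenLocus.one' ⊤))) := fun t => by
    obtain ⟨W, hW, r, rfl⟩ := exists_germM_eq _ x t
    refine ⟨X.presheaf.germ W x hW r, ?_⟩
    rw [LinearMap.toSpanSingleton_apply,
      show germM (Coh.structureModule X) ⊤ x trivial (Props.GenLocus.one' ⊤) = _ from
        ((Coh.structureModule X).presheaf.germ_res_apply (homOfLE (le_top : W ≤ ⊤)) x hW _).symm,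
      ← germM_smul]
    congr 1
    exact (congrArg (fun z : Γ(X, W) => (show Γ(X, W) from r) * z)
      (X.presheaf.map (homOfLE (le_top : W ≤ ⊤)).op).hom.map_one).trans (mul_one (show Γ(X, W) from r))
  let e := (LinearEquiv.funUnique (Fin 1) (X.presheaf.stalk x) (X.presheaf.stalk x)).symm.trans eO
  refine ⟨fun a b h => e.injective (congrArg e (?_ : a = b)), hs⟩
  exact OrzechProperty.injective_of_surjective_endomorphism
    ((e.symm.toLinearMap).comp (LinearMap.toSpanSingleton (X.presheaf.stalk x)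
      ((Coh.structureModule X).presheaf.stalk x)
      (germM (Coh.structureModule X) ⊤ x trivial (Props.GenLocus.one' ⊤))))
    (e.symm.surjective.comp hs) (congrArg e.symm h)

variable [IsNoetherian X]

/-- Coordinates of the powers of the structure module. -/
noncomputable def powCoord (n : ℕ) (x : X) :
    (CohDev.pow (Coh.structureModule X) n).presheaf.stalk x ≃ₗ[X.presheaf.stalk x] (Fin n → X.presheaf.stalk x) :=
  (CohDev.powStalkEquiv (Coh.structureModule X) n x).trans
    (LinearEquiv.piCongrRight fun _ : Fin n =>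
      (LinearEquiv.ofBijective (LinearMap.toSpanSingleton (X.presheaf.stalk x) ((Coh.structureModule X).presheaf.stalk x)
        (germM (Coh.structureModule X) ⊤ x trivial (Props.GenLocus.one' ⊤))) (bijective_unitStalk x)).symm)

theorem powCoord_sp (n : ℕ) {y x : X} (h : y ⤳ x) (t : (CohDev.pow (Coh.structureModule X) n).presheaf.stalk x)
    (i : Fin n) : powCoord n y (sp _ h t) i = spR h (powCoord n x t i) := by
  show (LinearEquiv.ofBijective _ (bijective_unitStalk y)).symm
    (stalkLin (biproduct.π (fun _ : Fin n => Coh.structureModule X) i) y (sp _ h t)) = _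
  rw [LinearEquiv.symm_apply_eq]
  have h1 := (LinearEquiv.ofBijective _ (bijective_unitStalk x)).apply_symm_apply
    (stalkLin (biproduct.π (fun _ : Fin n => Coh.structureModule X) i) x t)
  rw [LinearEquiv.ofBijective_apply, LinearMap.toSpanSingleton_apply] at h1
  show stalkLin (biproduct.π (fun _ : Fin n => Coh.structureModule X) i) y (sp _ h t) = _
  rw [LinearEquiv.ofBijective_apply, LinearMap.toSpanSingleton_apply, ← sp_stalkLin, ← h1, sp_smul, sp_germ]
  rfl

variable [IsIntegral X] (k : Type u) [Field k] [X.Over (Spec (CommRingCat.of k))]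
  [IsProper (X ↘ Spec (CommRingCat.of k))] (hdim : topologicalKrullDim X = 1)

include k hdim in
/-- The degree in terms of local matrices. -/
theorem exists_deg_eq_sum {n : ℕ} {E : X.Modules} (hE : FlatMod.IsFinLocFreeOfRank n E)
    (fr : ∀ x : X, (Fin n → X.presheaf.stalk x) ≃ₗ[X.presheaf.stalk x] E.presheaf.stalk x)
    (P : ∀ x : X, Matrix (Fin n) (Fin n) (X.presheaf.stalk x)) (d : ∀ x : X, X.presheaf.stalk x)
    (hd : ∀ x, d x ≠ 0) (hP : ∀ x, (P x).det ≠ 0)
    (hrel : ∀ x i j, spR ((genericPoint_spec X).specializes trivial) (d x) *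
      (fr (genericPoint X)).symm (sp E ((genericPoint_spec X).specializes trivial) (fr x (Pi.single j 1))) i =
      spR ((genericPoint_spec X).specializes trivial) (P x i j)) :
    ∃ T₀ : Finset X, (∀ x ∈ T₀, IsClosed ({x} : Set X)) ∧ ∀ T : Finset X, (∀ x ∈ T, IsClosed ({x} : Set X)) →
      T₀ ⊆ T → Curv2.deg k X E n = ∑ x ∈ T, ptDeg k x * (ordZ (d x ^ n) - ordZ (P x).det) := by
  classical
  haveI := compactSpace k (X := X)
  have hη : ∀ x : X, genericPoint X ⤳ x := fun x => (genericPoint_spec X).specializes trivial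
  have hO := VBLib.isCoh_of_ofRank (ProjTwist.isFinLocFreeOfRank_one (PicLoc.isInvertible_structureModule X))
  obtain ⟨hF, hFk⟩ := CohDev.isCoh_pow_and_kcl hO n
  have hEc := VBLib.isCoh_of_ofRank hE
  obtain ⟨H, a, b, hH, ha, hab⟩ := exists_roof_compat hEc hF (genericPoint X)
    ((fr (genericPoint X)).symm.trans (powCoord n (genericPoint X)).symm)
  have hb : Function.Bijective (stalkLin b (genericPoint X)) := by
    rw [show ⇑(stalkLin b (genericPoint X)) = ((fr (genericPoint X)).symm.trans (powCoord n (genericPoint X)).symm) ∘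
      stalkLin a (genericPoint X) from funext hab]
    exact (LinearEquiv.bijective _).comp ha
  let bad : Set X := CohB1.support (kernel a) ∪ CohB1.support (cokernel a) ∪
    (CohB1.support (kernel b) ∪ CohB1.support (cokernel b))
  have hbadc : IsClosed bad :=
    ((CohDev.isClosed_support (CohDev.isCoh_kernel' a hH hEc)).union
      (CohDev.isClosed_support (CohDev.isCoh_cokernel a hH.1 hEc))).union
    ((CohDev.isClosed_support (CohDev.isCoh_kernel' b hH hF)).union
      (CohDev.isClosed_support (CohDev.isCoh_cokernel b hH.1 hF)))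
  have hξ : genericPoint X ∉ bad := by
    rintro ((h | h) | (h | h))
    · exact CohDev.not_mem_support_kernel a ha.1 h
    · exact CohDev.not_mem_support_cokernel a ha.2 h
    · exact CohDev.not_mem_support_kernel b hb.1 h
    · exact CohDev.not_mem_support_cokernel b hb.2 h
  have hfin : bad.Finite := VarDim.finite_of_isClosed k hdim hbadc hξ
  refine ⟨hfin.toFinset, fun x hx => VarDim.isClosed_singleton_of_ne_genericPoint k hdim
    fun h => hξ (h ▸ hfin.mem_toFinset.1 hx), fun T hT hsub => ?_⟩
  have hbij : ∀ {B : X.Modules} (f : H ⟶ B), CohB1.support (kernel f) ∪ CohB1.support (cokernel f) ⊆ bad →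
      ∀ x, x ∉ T → Function.Bijective (stalkLin f x) := by
    intro B f hf x hx
    have hxb : x ∉ bad := fun h => hx (hsub (hfin.mem_toFinset.2 h))
    obtain ⟨I, p, q, w₁, w₂, hpq, hS₁, hS₂⟩ := exists_factor f
    obtain ⟨-, he₁, hp⟩ := stalk_exact hS₁ x
    obtain ⟨hq, he₂, -⟩ := stalk_exact hS₂ x
    haveI : Subsingleton ((kernel f).presheaf.stalk x) := not_not.1 fun h => hxb (hf (Or.inl h))
    haveI : Subsingleton ((cokernel f).presheaf.stalk x) := not_not.1 fun h => hxb (hf (Or.inr h))
    have hpi : Function.Injective (stalkLin p x) := by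
      rw [injective_iff_map_eq_zero]
      intro t ht
      obtain ⟨z, rfl⟩ := (he₁ t).1 ht
      rw [Subsingleton.elim z 0, map_zero]
    have hqs : Function.Surjective (stalkLin q x) := fun t => (he₂ t).1 (Subsingleton.elim _ _)
    rw [show ⇑(stalkLin f x) = stalkLin q x ∘ stalkLin p x from funext fun t => by
      rw [Function.comp_apply, ← CohDev.stalkLin_comp_apply, hpq]]
    exact ⟨hq.comp hpi, hqs.comp hp⟩
  obtain ⟨hia, hea⟩ := euler_sub_eq_sum_index k T hT a hH hEc (hbij a fun z hz => Or.inl hz)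
  obtain ⟨hib, heb⟩ := euler_sub_eq_sum_index k T hT b hH hF (hbij b fun z hz => Or.inr hz)
  have hpow : Curv2.euler k X (CohDev.pow (Coh.structureModule X) n) = n * Curv2.euler k X (Coh.structureModule X) := by
    have h := congrArg (eulerK k) hFk
    rw [map_nsmul, eulerK_kcl k hF, eulerK_kcl k hO, nsmul_eq_mul] at h
    exact h
  have hkey : Curv2.deg k X E n = ∑ x ∈ T, ptDeg k x * (index (stalkLin a x) - index (stalkLin b x)) := by
    simp only [mul_sub, Finset.sum_sub_distrib, ← hea, ← heb]
    rw [Curv2.deg, hpow]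
    ring
  rw [hkey]
  refine Finset.sum_congr rfl fun x hx => congrArg _ ?_
  haveI : Ring.KrullDimLE 1 (X.presheaf.stalk x) := by
    rw [Ring.krullDimLE_iff, ringKrullDim_stalk_eq_coheight,
      CurveDVR.coheight_eq_one (X ↘ Spec (CommRingCat.of k)) hdim (hT x hx)]
    rfl
  -- the maps in coordinates
  let a' : H.presheaf.stalk x →ₗ[X.presheaf.stalk x] (Fin n → X.presheaf.stalk x) :=
    (fr x).symm.toLinearMap.comp (stalkLin a x)
  let b' : H.presheaf.stalk x →ₗ[X.presheaf.stalk x] (Fin n → X.presheaf.stalk x) :=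
    (powCoord n x).toLinearMap.comp (stalkLin b x)
  obtain ⟨hia', ea⟩ := hasIndex_index_congr (f' := a') (LinearEquiv.refl _ _) (fr x).symm (fun t => rfl) (hia x)
  obtain ⟨hib', eb⟩ := hasIndex_index_congr (f' := b') (LinearEquiv.refl _ _) (powCoord n x) (fun t => rfl) (hib x)
  rw [← ea, ← eb]
  refine index_sub_index hia' hib' (hP x) (hd x) fun t => ?_
  have hinj : Function.Injective (spR (hη x)) := IsFractionRing.injective (X.presheaf.stalk x) X.functionField
  funext i
  refine hinj ?_
  have h1 : stalkLin a x t = ∑ j, a' t j • fr x (Pi.single j 1) := by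
    conv_lhs => rw [← (fr x).apply_symm_apply (stalkLin a x t), pi_eq_sum_univ' ((fr x).symm (stalkLin a x t))]
    rw [map_sum]
    exact Finset.sum_congr rfl fun j _ => by rw [map_smul]; rfl
  have h2 : spR (hη x) (b' t i) = ∑ j, spR (hη x) (a' t j) *
      (fr (genericPoint X)).symm (sp E (hη x) (fr x (Pi.single j 1))) i := by
    show spR (hη x) (powCoord n x (stalkLin b x t) i) = _
    rw [← powCoord_sp, sp_stalkLin, hab, LinearEquiv.trans_apply, LinearEquiv.apply_symm_apply, ← sp_stalkLin, h1,
      map_sum, map_sum, Finset.sum_apply]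
    refine Finset.sum_congr rfl fun j _ => ?_
    rw [sp_smul, map_smul, Pi.smul_apply, smul_eq_mul]
  rw [Pi.smul_apply, smul_eq_mul, map_mul, h2, Finset.mul_sum]
  simp only [Matrix.mulVec, dotProduct, map_sum, map_mul]
  refine Finset.sum_congr rfl fun j _ => ?_
  rw [← hrel x i j]
  ring

end Groth.Agent.EulerChar
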