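import Groth.Agent.EulerChar.Curve
import Groth.Agent.CohDev.Gen
import Groth.Agent.LenLib.Index

/-!
# Euler characteristics as sums of local indices

For coherent modules with finite support the Euler characteristic is a sum of stalk lengths, and a map
with kernel and cokernel of finite support changes it by a sum of local indices.
-/

universe u

open CategoryTheory CategoryTheory.Limits AlgebraicGeometry TopologicalSpace
open Groth.Agent.PullStalk.Sky Groth.Agent.PullStalk.Exact Groth.Agent.LenLib

set_option linter.style.haveILetI false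

namespace Groth.Agent.EulerChar

/-- Every map of an abelian category factors through its image, in two short exact sequences. -/
theorem exists_factor {C : Type*} [Category C] [Abelian C] {A B : C} (f : A ⟶ B) :
    ∃ (I : C) (p : A ⟶ I) (q : I ⟶ B) (w₁ : kernel.ι f ≫ p = 0) (w₂ : q ≫ cokernel.π f = 0),
      p ≫ q = f ∧ (ShortComplex.mk (kernel.ι f) p w₁).ShortExact ∧
        (ShortComplex.mk q (cokernel.π f) w₂).ShortExact := by
  have w₁ : kernel.ι f ≫ Abelian.factorThruImage f = 0 := by
    rw [← cancel_mono (Abelian.image.ι f), Category.assoc, Abelian.image.fac, kernel.condition, zero_comp]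
  refine ⟨Abelian.image f, Abelian.factorThruImage f, Abelian.image.ι f, w₁, kernel.condition _,
    Abelian.image.fac f, ?_, ?_⟩
  · exact
    { exact := ShortComplex.exact_of_f_is_kernel _ (KernelFork.IsLimit.ofι _ _
        (fun g hg => kernel.lift f g (by rw [← Abelian.image.fac f, reassoc_of% hg, zero_comp]))
        (fun g hg => kernel.lift_ι _ _ _)
        (fun g hg b hb => by rw [← cancel_mono (kernel.ι f), hb, kernel.lift_ι]))
      mono_f := inferInstance
      epi_g := inferInstanceAs (Epi (Abelian.factorThruImage f)) }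
  · exact
    { exact := ShortComplex.exact_of_f_is_kernel _ (kernelIsKernel _)
      mono_f := inferInstanceAs (Mono (kernel.ι (cokernel.π f)))
      epi_g := inferInstanceAs (Epi (cokernel.π f)) }

variable {X : Scheme.{u}} (k : Type u) [Field k] [X.Over (Spec (CommRingCat.of k))]
  [IsProper (X ↘ Spec (CommRingCat.of k))]

/-- The weight of a closed point. -/
noncomputable def ptDeg (x : X) : ℤ := Curv2.euler k X (Cyc.closureStructureSheaf x)

attribute [local irreducible] Curv2.euler

variable (T : Finset X) (hT : ∀ x ∈ T, IsClosed ({x} : Set X))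

include k hT in
theorem topDim_of_subset {G : X.Modules} (hs : CohB1.support G ⊆ ↑T) :
    topologicalKrullDim ↥(CohB1.support G) ≤ 0 :=
  (TopDimLib.topDim_le_of_subset hs).trans
    (topDim_le_zero_of_finite T.finite_toSet fun z hz => hT z hz)

include k hT in
theorem length_ne_top_of_subset {G : X.Modules} (hG : Coh.IsCoh G) (hs : CohB1.support G ⊆ ↑T) :
    ∀ x : X, Module.length (X.presheaf.stalk x) (G.presheaf.stalk x) ≠ ⊤ := by
  haveI := isNoetherian k (X := X)
  refine CohDev.devissage_on (↑T : Set X)
    (fun G => ∀ x : X, Module.length (X.presheaf.stalk x) (G.presheaf.stalk x) ≠ ⊤) ?_ ?_ ?_ hG hs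
  · intro M hM x
    haveI : Subsingleton (M.presheaf.stalk x) := AddCommGrpCat.subsingleton_of_isZero
      ((Scheme.Modules.toPresheaf X ⋙ TopCat.Presheaf.stalkFunctor AddCommGrpCat.{u} x).map_isZero hM)
    rw [Module.length_eq_zero]
    exact ENat.zero_ne_top
  · intro S hS _ _ _ _ h₁ h₃ x
    obtain ⟨hi, he, hg⟩ := stalk_exact hS x
    rw [Module.length_eq_add_of_exact _ _ hi hg he]
    exact WithTop.add_ne_top.2 ⟨h₁ x, h₃ x⟩
  · intro z hz J hJ _ x
    by_cases h : x = z
    · subst h
      obtain ⟨g, hg, -, hx⟩ := hJ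
      rw [(LinearEquiv.ofBijective _ (CohDev.stalk_piece g hx)).length_eq, CohDev.length_stalk_oz]
      exact ENat.one_ne_top
    · haveI : Subsingleton (J.presheaf.stalk x) := by
        by_contra hne
        have h1 := hJ.support_subset hne
        rw [(hT z hz).closure_eq] at h1
        exact h h1
      rw [Module.length_eq_zero]
      exact ENat.zero_ne_top

include hT in
/-- The Euler characteristic of a module with finite support. -/
theorem euler_eq_sum_lenZ {G : X.Modules} (hG : Coh.IsCoh G) (hs : CohB1.support G ⊆ ↑T) :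
    Curv2.euler k X G = ∑ x ∈ T, ptDeg k x * lenZ (X.presheaf.stalk x) (G.presheaf.stalk x) := by
  classical
  haveI := isNoetherian k (X := X)
  refine CohDev.devissage_on (↑T : Set X)
    (fun G => Curv2.euler k X G = ∑ x ∈ T, ptDeg k x * lenZ (X.presheaf.stalk x) (G.presheaf.stalk x))
    ?_ ?_ ?_ hG hs
  · intro M hM
    rw [euler_of_isZero k hM]
    refine (Finset.sum_eq_zero fun x _ => ?_).symm
    haveI : Subsingleton (M.presheaf.stalk x) := AddCommGrpCat.subsingleton_of_isZero
      ((Scheme.Modules.toPresheaf X ⋙ TopCat.Presheaf.stalkFunctor AddCommGrpCat.{u} x).map_isZero hM)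
    simp [lenZ, Module.length_eq_zero]
  · intro S hS h₁ h₂ h₃ hsup e₁ e₃
    rw [euler_add k hS h₁ h₂ h₃, e₁, e₃, ← Finset.sum_add_distrib]
    refine Finset.sum_congr rfl fun x _ => ?_
    obtain ⟨hi, he, hg⟩ := stalk_exact hS x
    rw [lenZ_eq_range_add he (length_ne_top_of_subset k T hT h₂ hsup x), lenZ_of_injective hi,
      lenZ_of_surjective hg, mul_add]
  · intro z hz J hJ _
    obtain ⟨g, hg, hJc, hx⟩ := hJ
    have hzero : ∀ x, x ≠ z → Subsingleton ((Cyc.closureStructureSheaf z).presheaf.stalk x) := fun x h => by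
      by_contra hne
      have h1 := CohDev.support_oz_subset z hne
      rw [(hT z hz).closure_eq] at h1
      exact h h1
    haveI : Epi g := by
      refine Omega.Stalks.epi_of_stalk fun y => ?_
      by_cases h : y = z
      · subst h; exact (CohDev.stalk_piece g hx).2
      · haveI := hzero y h
        exact fun t => ⟨0, Subsingleton.elim _ _⟩
    haveI := isIso_of_mono_of_epi g
    rw [euler_iso k (asIso g), Finset.sum_eq_single z]
    · rw [lenZ, (LinearEquiv.ofBijective _ (CohDev.stalk_piece g hx)).length_eq, CohDev.length_stalk_oz]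
      simp [ptDeg]
    · intro x _ hxz
      haveI := hzero x hxz
      haveI : Subsingleton (J.presheaf.stalk x) := (CohDev.stalk_injective g x).subsingleton
      simp [lenZ, Module.length_eq_zero]
    · intro h
      exact absurd hz h

include hT in
/-- A map bijective outside a finite set changes the Euler characteristic by the sum of its indices. -/
theorem euler_sub_eq_sum_index {A B : X.Modules} (f : A ⟶ B) (hA : Coh.IsCoh A) (hB : Coh.IsCoh B)
    (hf : ∀ x, x ∉ T → Function.Bijective (stalkLin f x)) :
    (∀ x, HasIndex (stalkLin f x)) ∧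
      Curv2.euler k X B - Curv2.euler k X A = ∑ x ∈ T, ptDeg k x * index (stalkLin f x) := by
  haveI := isNoetherian k (X := X)
  have hK : Coh.IsCoh (kernel f) := CohDev.isCoh_kernel' f hA hB
  have hC : Coh.IsCoh (cokernel f) := CohDev.isCoh_cokernel f hA.1 hB
  have hKs : CohB1.support (kernel f) ⊆ ↑T := fun x hx => by_contra fun h =>
    CohDev.not_mem_support_kernel f (hf x h).1 hx
  have hCs : CohB1.support (cokernel f) ⊆ ↑T := fun x hx => by_contra fun h =>
    CohDev.not_mem_support_cokernel f (hf x h).2 hx
  obtain ⟨I, p, q, w₁, w₂, hpq, hS₁, hS₂⟩ := exists_factor f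
  haveI : Mono q := hS₂.mono_f
  have hI : Coh.IsCoh I :=
    CohDev.isCoh_of_iso (hS₂.fIsKernel.conePointUniqueUpToIso (kernelIsKernel (cokernel.π f))).symm
      (CohDev.isCoh_kernel' (cokernel.π f) hB hC)
  have key : ∀ x, Nonempty ((kernel f).presheaf.stalk x ≃ₗ[X.presheaf.stalk x] LinearMap.ker (stalkLin f x)) ∧
      Nonempty ((B.presheaf.stalk x ⧸ LinearMap.range (stalkLin f x)) ≃ₗ[X.presheaf.stalk x]
        (cokernel f).presheaf.stalk x) := by
    intro x
    obtain ⟨hi₁, he₁, hp⟩ := stalk_exact hS₁ x
    obtain ⟨hq, he₂, hπ⟩ := stalk_exact hS₂ x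
    have hfac : stalkLin f x = (stalkLin q x).comp (stalkLin p x) :=
      LinearMap.ext fun t => by
        rw [LinearMap.comp_apply, ← CohDev.stalkLin_comp_apply, hpq]
    constructor
    · refine ⟨(LinearEquiv.ofInjective _ hi₁).trans (LinearEquiv.ofEq _ _ ?_)⟩
      rw [hfac, LinearMap.ker_comp_of_ker_eq_bot _ (LinearMap.ker_eq_bot.2 hq), he₁.linearMap_ker_eq]
    · refine ⟨(Submodule.quotEquivOfEq _ _ ?_).trans (LinearMap.quotKerEquivOfSurjective _ hπ)⟩
      rw [hfac, LinearMap.range_comp_of_range_eq_top _ (LinearMap.range_eq_top.2 hp), he₂.linearMap_ker_eq]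
  refine ⟨fun x => ⟨?_, ?_⟩, ?_⟩
  · rw [← (key x).1.some.length_eq]
    exact length_ne_top_of_subset k T hT hK hKs x
  · rw [(key x).2.some.length_eq]
    exact length_ne_top_of_subset k T hT hC hCs x
  have e₁ : Curv2.euler k X A = Curv2.euler k X (kernel f) + Curv2.euler k X I :=
    euler_add' k (kernel.ι f) p w₁ hS₁ hK hA hI
  have e₂ : Curv2.euler k X B = Curv2.euler k X I + Curv2.euler k X (cokernel f) :=
    euler_add' k q (cokernel.π f) w₂ hS₂ hI hB hC
  rw [e₁, e₂, add_comm (Curv2.euler k X (kernel f)), add_sub_add_left_eq_sub,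
    euler_eq_sum_lenZ k T hT hK hKs, euler_eq_sum_lenZ k T hT hC hCs]
  rw [← Finset.sum_sub_distrib]
  refine Finset.sum_congr rfl fun x _ => ?_
  rw [index, lenZ_congr (key x).2.some, ← lenZ_congr (key x).1.some, mul_sub]

end Groth.Agent.EulerChar
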